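import Cfsg.Agent.S3344
import Cfsg.Agent.Lib.Icosian.Extraspecial
import Cfsg.Agent.Lib.SelfThree29.Main
import Cfsg.Agent.Lib.FusionMathieu.Groups

/-!
The centraliser of an involution `u` commuting with `t`, when `C(t, u)` has the shape found in the
third Conway group: modulo `⟨u⟩` the hypotheses of the recognition of `M₁₂` hold.
-/

set_option autoImplicit false

namespace CfsgLib.CoThreeUnique

open Subgroup

/-- The data of `C(t, u)`. -/
structure CoreData {G : Type*} [Group G] (t u : G) (P : Subgroup G) (a k h : G) : Prop where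
  card_cent : Nat.card (centralizer ({t, u} : Set G)) = 384
  ord_t : orderOf t = 2
  ord_u : orderOf u = 2
  comm : Commute t u
  ne : t ≠ u
  no_swap : ∀ g : G, g * t * g⁻¹ ≠ t * u
  le : P ≤ centralizer ({t, u} : Set G)
  card_P : Nat.card P = 64
  norm : ∀ c ∈ centralizer ({t, u} : Set G), ∀ p ∈ P, c * p * c⁻¹ ∈ P
  t_mem : t ∈ P
  u_mem : u ∈ P
  sq : ∀ p ∈ P, p * p ∈ ({1, t, u, t * u} : Set G)
  comm_mem : ∀ p ∈ P, ∀ q ∈ P, p * q * p⁻¹ * q⁻¹ ∈ ({1, t, u, t * u} : Set G)
  centre : ∀ p ∈ P, (∀ q ∈ P, p * q * p⁻¹ * q⁻¹ ∈ ({1, u} : Set G)) →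
    p ∈ ({1, t, u, t * u} : Set G)
  nonab : ∃ p ∈ P, ∃ q ∈ P, p * q * p⁻¹ * q⁻¹ ∉ ({1, u} : Set G)
  a_mem : a ∈ centralizer ({t, u} : Set G)
  a_cube : a ^ 3 = 1
  a_notMem : a ∉ P
  k_mem : k ∈ centralizer ({t, u} : Set G)
  k_a : k * a * k⁻¹ * a⁻¹ ∉ P
  fix : ∀ p ∈ P, a * p * a⁻¹ * p⁻¹ ∈ ({1, u} : Set G) → p ∈ ({1, t, u, t * u} : Set G)
  h_comm : Commute h u
  h_mem : h * t * h⁻¹ ∈ P
  h_ne : h * t * h⁻¹ ∉ ({1, t, u, t * u} : Set G)

/-- The data go over along an injective homomorphism keeping `C(t, u)`. -/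
theorem CoreData.map {G H : Type*} [Group G] [Group H] {t u : G} {P : Subgroup G} {a k h : G}
    (D : CoreData t u P a k h) (f : G →* H) (hf : Function.Injective f)
    (hcent : centralizer ({f t, f u} : Set H) = (centralizer ({t, u} : Set G)).map f)
    (hswap : ∀ g : H, g * f t * g⁻¹ ≠ f t * f u) :
    CoreData (f t) (f u) (P.map f) (f a) (f k) (f h) := by
  have e2 : ∀ x : G, f x ∈ ({1, f u} : Set H) ↔ x ∈ ({1, u} : Set G) := fun x => by
    simp only [Set.mem_insert_iff, Set.mem_singleton_iff, map_eq_one_iff f hf, hf.eq_iff]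
  have e4 : ∀ x : G, f x ∈ ({1, f t, f u, f t * f u} : Set H) ↔
      x ∈ ({1, t, u, t * u} : Set G) := fun x => by
    simp only [Set.mem_insert_iff, Set.mem_singleton_iff, map_eq_one_iff f hf, ← map_mul, hf.eq_iff]
  have ec : ∀ x y : G, f x * f y * (f x)⁻¹ * (f y)⁻¹ = f (x * y * x⁻¹ * y⁻¹) := fun x y => by
    simp only [map_mul, map_inv]
  have hm : ∀ x : G, f x ∈ P.map f ↔ x ∈ P := fun x => mem_map_iff_mem hf
  constructor
  · rw [hcent, Nat.card_congr (Subgroup.equivMapOfInjective _ f hf).toEquiv.symm, D.card_cent]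
  · rw [orderOf_injective f hf, D.ord_t]
  · rw [orderOf_injective f hf, D.ord_u]
  · exact D.comm.map f
  · exact fun e => D.ne (hf e)
  · exact hswap
  · rw [hcent]; exact map_mono D.le
  · rw [Nat.card_congr (Subgroup.equivMapOfInjective _ f hf).toEquiv.symm, D.card_P]
  · rw [hcent]
    rintro _ ⟨c, hc, rfl⟩ _ ⟨p, hp, rfl⟩
    exact ⟨c * p * c⁻¹, D.norm c hc p hp, by simp only [map_mul, map_inv]⟩
  · exact (hm _).2 D.t_mem
  · exact (hm _).2 D.u_mem
  · rintro _ ⟨p, hp, rfl⟩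
    rw [show f p * f p = f (p * p) from (map_mul f p p).symm, e4]
    exact D.sq p hp
  · rintro _ ⟨p, hp, rfl⟩ _ ⟨q, hq, rfl⟩
    rw [ec, e4]
    exact D.comm_mem p hp q hq
  · rintro _ ⟨p, hp, rfl⟩ h1
    rw [e4]
    exact D.centre p hp fun q hq => (e2 _).1 (ec p q ▸ h1 _ ((hm _).2 hq))
  · obtain ⟨p, hp, q, hq, hpq⟩ := D.nonab
    exact ⟨f p, (hm _).2 hp, f q, (hm _).2 hq, by rwa [ec, e2]⟩
  · rw [hcent]; exact mem_map_of_mem f D.a_mem
  · rw [← map_pow, D.a_cube, map_one]
  · exact fun e => D.a_notMem ((hm _).1 e)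
  · rw [hcent]; exact mem_map_of_mem f D.k_mem
  · rw [ec]; exact fun e => D.k_a ((hm _).1 e)
  · rintro _ ⟨p, hp, rfl⟩ h1
    rw [e4]
    exact D.fix p hp ((e2 _).1 (ec a p ▸ h1))
  · exact D.h_comm.map f
  · rw [show f h * f t * (f h)⁻¹ = f (h * t * h⁻¹) by simp only [map_mul, map_inv], hm]; exact D.h_mem
  · rw [show f h * f t * (f h)⁻¹ = f (h * t * h⁻¹) by simp only [map_mul, map_inv], e4]; exact D.h_ne

/-- The centraliser of `u` has the order of `2 × M₁₂`. -/
theorem CoreData.card_centralizer {G : Type*} [Group G] [Finite G] {t u : G} {P : Subgroup G}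
    {a k h : G} (D : CoreData t u P a k h) {n : G} (hn : orderOf n = 11) (hnu : Commute n u) :
    Nat.card (centralizer ({u} : Set G)) = 190080 := by
  classical
  have : Fact (Nat.Prime 2) := ⟨Nat.prime_two⟩
  have : Fact (Nat.Prime 3) := ⟨Nat.prime_three⟩
  have hu1 : u ≠ 1 := fun e => by simpa [e] using D.ord_u
  have ht1 : t ≠ 1 := fun e => by simpa [e] using D.ord_t
  have hu2 : u * u = 1 := by rw [← pow_two, ← D.ord_u, pow_orderOf_eq_one]
  set C := centralizer ({u} : Set G) with hC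
  have hCmem : ∀ g : G, g ∈ C ↔ Commute g u := fun g => mem_centralizer_singleton_iff
  have hKC : centralizer ({t, u} : Set G) ≤ C := centralizer_le (by simp)
  have hPC : P ≤ C := D.le.trans hKC
  let N : Subgroup C := (zpowers u).subgroupOf C
  have hNmem : ∀ c : C, c ∈ N ↔ (c : G) ∈ ({1, u} : Set G) := by
    intro c
    show (c : G) ∈ zpowers u ↔ _
    simp only [Set.mem_insert_iff, Set.mem_singleton_iff]
    constructor
    · intro hc
      obtain ⟨j, hj⟩ := mem_zpowers_iff.1 hc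
      rw [← hj, ← zpow_mod_orderOf, D.ord_u]
      rcases Int.emod_two_eq_zero_or_one j with e | e <;> simp [e]
    · rintro (e | e) <;> rw [e]
      exacts [one_mem _, mem_zpowers u]
  have hN : N.Normal := ⟨fun m hm g => by
    rw [hNmem] at hm ⊢
    rcases hm with e | e
    · left; simp only [Subgroup.coe_mul, InvMemClass.coe_inv, e, mul_one, mul_inv_cancel]
    · right
      rw [Set.mem_singleton_iff] at e ⊢
      simp only [Subgroup.coe_mul, InvMemClass.coe_inv, e, ((hCmem _).1 g.2).eq, mul_inv_cancel_right]⟩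
  let π : C →* C ⧸ N := QuotientGroup.mk' N
  have hker : ∀ c : C, π c = 1 ↔ (c : G) ∈ ({1, u} : Set G) := fun c =>
    (QuotientGroup.eq_one_iff c).trans (hNmem c)
  let tC : C := ⟨t, (hCmem t).2 D.comm⟩
  let uC : C := ⟨u, (hCmem u).2 (Commute.refl u)⟩
  set s := π tC with hs
  have hu0 : π uC = 1 := (hker uC).2 (Or.inr rfl)
  have hs0 : s ≠ 1 := fun e => by
    rcases (hker tC).1 e with e' | e'
    exacts [ht1 e', D.ne e']
  have htC2 : tC * tC = 1 := Subtype.ext (show t * t = 1 by rw [← pow_two, ← D.ord_t, pow_orderOf_eq_one])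
  have hord : orderOf s = 2 := orderOf_eq_prime (by rw [pow_two, hs, ← map_mul, htC2, map_one]) hs0
  -- the four elements over `⟨s⟩`
  have hfour : ∀ c : C, (c : G) ∈ ({1, t, u, t * u} : Set G) ↔ π c = 1 ∨ π c = s := by
    intro c
    constructor
    · simp only [Set.mem_insert_iff, Set.mem_singleton_iff]
      rintro (e | e | e | e)
      · exact Or.inl ((hker c).2 (Or.inl e))
      · exact Or.inr (congrArg π (Subtype.ext e : c = tC))
      · exact Or.inl ((hker c).2 (Or.inr e))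
      · exact Or.inr (by rw [(Subtype.ext e : c = tC * uC), map_mul, hu0, mul_one])
    · simp only [Set.mem_insert_iff, Set.mem_singleton_iff]
      rintro (e | e)
      · rcases (hker c).1 e with e | e
        exacts [Or.inl e, Or.inr (Or.inr (Or.inl e))]
      · have h1 : π (tC⁻¹ * c) = 1 := by rw [map_mul, map_inv, e, inv_mul_cancel]
        rcases (hker _).1 h1 with e' | e'
        · exact Or.inr (Or.inl (inv_mul_eq_one.1 e').symm)
        · exact Or.inr (Or.inr (Or.inr (inv_mul_eq_iff_eq_mul.1 e')))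
  set L := centralizer ({s} : Set (C ⧸ N)) with hL
  let K' : Subgroup C := (centralizer ({t, u} : Set G)).subgroupOf C
  have hLeq : L = K'.map π := by
    ext x
    obtain ⟨c, rfl⟩ := QuotientGroup.mk'_surjective N x
    constructor
    · intro hx
      have h1 : π (c * tC * c⁻¹) = s := by
        rw [map_mul, map_mul, map_inv, ← hs]
        exact (eq_mul_inv_iff_mul_eq.2 (mem_centralizer_singleton_iff.1 hx).symm).symm
      rcases (hfour _).2 (Or.inr h1) with e | e | e | e
      · exact absurd (conj_eq_one_iff.1 (Subtype.ext e : c * tC * c⁻¹ = 1))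
          (fun e' => ht1 (congrArg Subtype.val e'))
      · exact mem_map_of_mem π (mem_centralizer_iff.2 (by
          rintro y (rfl | rfl)
          · exact (mul_inv_eq_iff_eq_mul.1 e).symm
          · exact ((hCmem _).1 c.2).symm.eq))
      · exfalso
        have hcu := (hCmem _).1 c.2
        refine D.ne ?_
        have e' : (c : G) * t * (c : G)⁻¹ = u := e
        calc t = (c : G)⁻¹ * ((c : G) * t * (c : G)⁻¹) * c := by group
          _ = u := by rw [e', mul_assoc, ← hcu.eq, inv_mul_cancel_left]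
      · exact absurd e (D.no_swap c)
    · rintro ⟨d, hd, hdc⟩
      rw [← hdc]
      refine mem_centralizer_singleton_iff.2 ?_
      rw [hs, ← map_mul, ← map_mul]
      exact congrArg π (Subtype.ext (mem_centralizer_iff.1 hd t (Or.inl rfl)).symm)
  -- orders
  have hNcard : Nat.card N = 2 := by
    rw [Nat.card_congr (subgroupOfEquivOfLe (zpowers_le.2 ((hCmem u).2 (Commute.refl u)))).toEquiv,
      Nat.card_zpowers, D.ord_u]
  have hmapcard : ∀ S : Subgroup C, N ≤ S → Nat.card (S.map π) * 2 = Nat.card S := by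
    intro S hS
    have h1 := card_eq_card_quotient_mul_card_subgroup (N.subgroupOf S)
    rw [Nat.card_congr (subgroupOfEquivOfLe hS).toEquiv, hNcard] at h1
    rw [h1]
    congr 1
    refine Nat.card_congr (((QuotientGroup.quotientKerEquivRange (π.comp S.subtype)).symm.trans
      (QuotientGroup.quotientMulEquivOfEq ?_)).toEquiv.trans (Equiv.refl _) |> fun e =>
        ((MulEquiv.subgroupCongr (show S.map π = (π.comp S.subtype).range by
          rw [MonoidHom.range_comp, range_subtype])).toEquiv.trans e))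
    ext c
    rw [MonoidHom.mem_ker, mem_subgroupOf]
    exact QuotientGroup.eq_one_iff (c : C)
  have hu2' : ∀ S : Subgroup G, u ∈ S → N ≤ S.subgroupOf C := fun S hS c hc => by
    rcases (hNmem c).1 hc with e | e <;> show (c : G) ∈ S <;> rw [e]
    exacts [one_mem _, hS]
  have huK : u ∈ centralizer ({t, u} : Set G) := D.le D.u_mem
  have hLcard : Nat.card L = 192 := by
    have h1 := hmapcard K' (hu2' _ huK)
    rw [← hLeq, Nat.card_congr (subgroupOfEquivOfLe hKC).toEquiv, D.card_cent] at h1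
    omega
  let P' : Subgroup C := P.subgroupOf C
  set Pb := P'.map π with hPb
  have hPbcard : Nat.card Pb = 32 := by
    have h1 := hmapcard P' (hu2' _ D.u_mem)
    rw [← hPb, Nat.card_congr (subgroupOfEquivOfLe hPC).toEquiv, D.card_P] at h1
    omega
  have hPbL : Pb ≤ L := by rw [hLeq]; exact map_mono fun c hc => D.le hc
  let PL : Subgroup L := Pb.subgroupOf L
  have hPLn : PL.Normal := ⟨fun m hm g => by
    have hm' : (m : C ⧸ N) ∈ Pb := hm
    obtain ⟨p, hp, hpm⟩ := hm'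
    have hg' : (g : C ⧸ N) ∈ K'.map π := hLeq ▸ g.2
    obtain ⟨c, hc, hcg⟩ := hg'
    show ((g * m * g⁻¹ : L) : C ⧸ N) ∈ Pb
    rw [Subgroup.coe_mul, Subgroup.coe_mul, InvMemClass.coe_inv, ← hpm, ← hcg, ← map_inv, ← map_mul,
      ← map_mul]
    exact mem_map_of_mem π (D.norm _ hc _ hp)⟩
  have hPLcard : Nat.card PL = 32 := by
    rw [Nat.card_congr (subgroupOfEquivOfLe hPbL).toEquiv, hPbcard]
  have hlift : ∀ g (hg : g ∈ centralizer ({t, u} : Set G)), π ⟨g, hKC hg⟩ ∈ L := fun g hg => by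
    rw [hLeq]; exact mem_map_of_mem π hg
  let aL : L := ⟨_, hlift a D.a_mem⟩
  let kL : L := ⟨_, hlift k D.k_mem⟩
  have hPLmem : ∀ (g : G) (hg : g ∈ centralizer ({t, u} : Set G)),
      (⟨_, hlift g hg⟩ : L) ∈ PL ↔ g ∈ P := by
    intro g hg
    refine ⟨fun hm => ?_, fun hm => mem_map_of_mem π (show (⟨g, hKC hg⟩ : C) ∈ P' from hm)⟩
    have h1 : (⟨g, hKC hg⟩ : C) ∈ (P'.map π).comap π := hm
    rwa [comap_map_eq, QuotientGroup.ker_mk', sup_eq_left.2 (hu2' _ D.u_mem)] at h1
  -- the quotient of order six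
  have hq6 : Nat.card (L ⧸ PL) = 6 := by
    have h1 := card_eq_card_quotient_mul_card_subgroup PL
    rw [hLcard, hPLcard] at h1
    omega
  let q : L →* L ⧸ PL := QuotientGroup.mk' PL
  have hqa3 : q aL ^ 3 = 1 := by
    rw [← map_pow, show aL ^ 3 = 1 from Subtype.ext (by
      show π ⟨a, hKC D.a_mem⟩ ^ 3 = 1
      rw [← map_pow, show (⟨a, hKC D.a_mem⟩ : C) ^ 3 = 1 from Subtype.ext D.a_cube, map_one]),
      map_one]
  have hqa : orderOf (q aL) = 3 := orderOf_eq_prime hqa3
    fun e => D.a_notMem ((hPLmem a D.a_mem).1 ((QuotientGroup.eq_one_iff aL).1 e))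
  have hnc : q kL * q aL * (q kL)⁻¹ ≠ q aL := by
    intro e
    refine D.k_a ((hPLmem _ (mul_mem (mul_mem (mul_mem D.k_mem D.a_mem) (inv_mem D.k_mem))
      (inv_mem D.a_mem))).1 ((QuotientGroup.eq_one_iff _).1 ?_))
    show q (kL * aL * kL⁻¹ * aL⁻¹) = 1
    rw [map_mul, map_mul, map_mul, map_inv, map_inv, e, mul_inv_cancel]
  have hidx : (zpowers (q aL)).index = 2 := by
    have h1 := card_mul_index (zpowers (q aL))
    rw [Nat.card_zpowers, hqa, hq6] at h1
    omega
  have hsc : CfsgLib.SelfThree29.SC3 (q aL) := by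
    refine ⟨hqa, fun g hg => ?_⟩
    by_contra hga
    have hle : zpowers (q aL) ≤ centralizer ({q aL} : Set (L ⧸ PL)) :=
      zpowers_le.2 (mem_centralizer_singleton_iff.2 rfl)
    have h1 := index_dvd_of_le hle
    rw [hidx, Nat.dvd_prime Nat.prime_two] at h1
    rcases h1 with e | e
    · rw [index_eq_one] at e
      refine hnc ?_
      rw [mem_centralizer_singleton_iff.1 (e ▸ mem_top (q kL) : q kL ∈ centralizer {q aL}),
        mul_inv_cancel_right]
    · refine hga ?_
      have := eq_of_le_of_card_ge hle (by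
        have h2 := card_mul_index (centralizer ({q aL} : Set (L ⧸ PL)))
        have h3 := card_mul_index (zpowers (q aL))
        rw [e] at h2
        rw [hidx] at h3
        omega)
      rw [this]
      exact mem_centralizer_singleton_iff.2 hg
  have hinv : q kL * q aL * (q kL)⁻¹ = (q aL)⁻¹ := by
    have hnorm : (zpowers (q aL)).Normal := normal_of_index_eq_two hidx
    have hmem := hnorm.conj_mem _ (mem_zpowers (q aL)) (q kL)
    obtain ⟨j, hj⟩ := mem_zpowers_iff.1 hmem
    rw [← zpow_mod_orderOf, hqa] at hj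
    have h3 : j % ((3 : ℕ) : ℤ) = 0 ∨ j % ((3 : ℕ) : ℤ) = 1 ∨ j % ((3 : ℕ) : ℤ) = 2 := by omega
    rcases h3 with e | e | e <;> rw [e] at hj
    · exfalso
      rw [zpow_zero] at hj
      have h1 : q aL = 1 := conj_eq_one_iff.1 hj.symm
      rw [h1, orderOf_one] at hqa
      exact absurd hqa (by norm_num)
    · exact absurd (hj.symm.trans (zpow_one _)) hnc
    · rw [← hj]
      refine eq_inv_of_mul_eq_one_left ?_
      rw [zpow_two, ← pow_two, ← pow_succ, hqa3]
  obtain ⟨e6⟩ := CfsgLib.SelfThree29.nonempty_mulEquiv_perm_three hq6 hsc hinv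
  -- the 2-core
  have hcore : Cfsg.pCore 2 L = PL := by
    refine le_antisymm (sSup_le ?_) (le_sSup ⟨hPLn, IsPGroup.of_card (n := 5) (by rw [hPLcard]; rfl)⟩)
    rintro M ⟨hMn, hM2⟩ m hm
    by_contra hmP
    have hMq : (M.map q).Normal := hMn.map q (QuotientGroup.mk'_surjective PL)
    obtain ⟨j, hj⟩ := (hM2.map q).exists_card_eq
    have hdvd : Nat.card (M.map q) ∣ 6 := hq6 ▸ card_subgroup_dvd_card _
    rw [hj] at hdvd
    have hj1 : j ≤ 1 := by
      by_contra hc
      have : 4 ∣ 6 := (pow_dvd_pow 2 (by omega : 2 ≤ j)).trans hdvd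
      norm_num at this
    have hqm : q m ≠ 1 := fun e => hmP ((QuotientGroup.eq_one_iff m).1 e)
    interval_cases j
    · exact hqm (by simpa using (eq_bot_of_card_eq _ (by rw [hj]; rfl) ▸ mem_map_of_mem q hm :
        q m ∈ (⊥ : Subgroup (L ⧸ PL))))
    · -- a normal subgroup of order two would commute with the element of order three
      have hfix : ∀ g : L ⧸ PL, g * q m * g⁻¹ = q m := by
        intro g
        have hg := hMq.conj_mem _ (mem_map_of_mem q hm) g
        have htwo : ∀ y ∈ M.map q, y = 1 ∨ y = q m := by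
          intro y hy
          have hz : zpowers (q m) = M.map q := eq_of_le_of_card_ge (zpowers_le.2 (mem_map_of_mem q hm))
            (by
              rw [hj, pow_one, Nat.card_zpowers]
              exact Nat.succ_le_of_lt (lt_of_le_of_ne (orderOf_pos _)
                fun e => hqm (orderOf_eq_one_iff.1 e.symm)))
          rw [← hz] at hy
          obtain ⟨i, rfl⟩ := mem_zpowers_iff.1 hy
          have ho : orderOf (q m) = 2 := by
            have h1 := Nat.card_zpowers (q m)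
            rw [hz, hj, pow_one] at h1
            exact h1.symm
          rw [← zpow_mod_orderOf, ho]
          rcases Int.emod_two_eq_zero_or_one i with e | e <;> simp [e]
        rcases htwo _ hg with e | e
        · exact absurd (conj_eq_one_iff.1 e) hqm
        · exact e
      have h1 : q m ∈ zpowers (q aL) :=
        hsc.cent _ (mul_inv_eq_iff_eq_mul.1 (hfix (q aL))).symm
      have h2 : orderOf (q m) ∣ 3 := hqa ▸ (Nat.card_zpowers (q aL) ▸
        Subgroup.orderOf_dvd_natCard _ h1)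
      have h3 : orderOf (q m) ∣ 2 := by
        have := Subgroup.orderOf_dvd_natCard _ (mem_map_of_mem q hm)
        rwa [hj, pow_one] at this
      exact hqm (orderOf_eq_one_iff.1 (Nat.eq_one_of_dvd_one (Nat.dvd_gcd h3 h2)))
  have hQmap : (Cfsg.pCore 2 L).map L.subtype = Pb := by
    rw [hcore, map_subgroupOf_eq_of_le hPbL]
  -- extraspecial
  have hmemPb : ∀ x ∈ Pb, ∃ (g : G) (hg : g ∈ P), π ⟨g, hPC hg⟩ = x := by
    rintro x ⟨c, hc, rfl⟩
    exact ⟨c, hc, rfl⟩
  have hsPb : s ∈ Pb := mem_map_of_mem π (show tC ∈ P' from D.t_mem)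
  have hcomL : ∀ x : C ⧸ N, x ∈ Pb → Commute s x := fun x hx =>
    (mem_centralizer_singleton_iff.1 (hPbL hx)).symm
  have hpi4 : ∀ c : C, (c : G) ∈ ({1, t, u, t * u} : Set G) → π c = 1 ∨ π c = s :=
    fun c => (hfour c).1
  have hQex : Cfsg.IsExtraspecial 2 Pb := by
    refine CfsgLib.Icosian.isExtraspecial_of_table (IsPGroup.of_card (n := 5) (by rw [hPbcard]; rfl))
      (z := ⟨s, hsPb⟩) (fun e => hs0 (congrArg Subtype.val e))
      (Subtype.ext (show s * s = 1 by rw [← pow_two, ← hord, pow_orderOf_eq_one]))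
      (fun x => Subtype.ext (hcomL _ x.2).eq) ?_ ?_ ?_ ?_
    · intro x
      obtain ⟨g, hg, hx⟩ := hmemPb _ x.2
      refine (hpi4 (⟨g, hPC hg⟩ * ⟨g, hPC hg⟩) (D.sq g hg)).imp (fun e => ?_) fun e => ?_ <;>
        refine Subtype.ext ?_ <;> show (x : C ⧸ N) * x = _ <;> rw [← hx, ← map_mul] <;> exact e
    · intro x y
      obtain ⟨g, hg, hx⟩ := hmemPb _ x.2
      obtain ⟨g', hg', hy⟩ := hmemPb _ y.2
      refine (hpi4 (⟨g, hPC hg⟩ * ⟨g', hPC hg'⟩ * ⟨g, hPC hg⟩⁻¹ * ⟨g', hPC hg'⟩⁻¹)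
        (D.comm_mem g hg g' hg')).imp (fun e => ?_) fun e => ?_ <;>
        rw [map_mul, map_mul, map_mul, map_inv, map_inv, hx, hy, mul_inv_eq_iff_eq_mul,
          mul_inv_eq_iff_eq_mul] at e <;>
        refine Subtype.ext ?_
      · simpa [mul_assoc] using e
      · show (x : C ⧸ N) * y = s * (y * x)
        simpa [mul_assoc] using e
    · intro x hx
      obtain ⟨g, hg, hxg⟩ := hmemPb _ x.2
      rcases hpi4 ⟨g, hPC hg⟩ (D.centre g hg fun g' hg' => (hker
        (⟨g, hPC hg⟩ * ⟨g', hPC hg'⟩ * ⟨g, hPC hg⟩⁻¹ * ⟨g', hPC hg'⟩⁻¹)).1 (by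
          rw [map_mul, map_mul, map_mul, map_inv, map_inv, hxg]
          have := congrArg Subtype.val
            (hx ⟨π ⟨g', hPC hg'⟩, mem_map_of_mem π (show (⟨g', hPC hg'⟩ : C) ∈ P' from hg')⟩)
          simp only [Subgroup.coe_mul] at this
          rw [this, mul_inv_cancel_right, mul_inv_cancel])) with e | e
      · exact Or.inl (Subtype.ext (hxg ▸ e))
      · exact Or.inr (Subtype.ext (hxg ▸ e))
    · obtain ⟨g, hg, g', hg', hne⟩ := D.nonab
      refine ⟨⟨_, mem_map_of_mem π (show (⟨g, hPC hg⟩ : C) ∈ P' from hg)⟩,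
        ⟨_, mem_map_of_mem π (show (⟨g', hPC hg'⟩ : C) ∈ P' from hg')⟩, fun e => hne ((hker
          (⟨g, hPC hg⟩ * ⟨g', hPC hg'⟩ * ⟨g, hPC hg⟩⁻¹ * ⟨g', hPC hg'⟩⁻¹)).1 ?_)⟩
      have := congrArg Subtype.val e
      simp only [Subgroup.coe_mul] at this
      rw [map_mul, map_mul, map_mul, map_inv, map_inv, this, mul_inv_cancel_right, mul_inv_cancel]
  -- the Sylow 3-subgroup
  have haL3 : aL ^ 3 = 1 := Subtype.ext (by
    show π ⟨a, hKC D.a_mem⟩ ^ 3 = 1
    rw [← map_pow, show (⟨a, hKC D.a_mem⟩ : C) ^ 3 = 1 from Subtype.ext D.a_cube, map_one])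
  have haL : orderOf aL = 3 :=
    orderOf_eq_prime haL3 fun e => D.a_notMem ((hPLmem a D.a_mem).1 (by
      show aL ∈ PL
      rw [e]
      exact PL.one_mem))
  have hXp : IsPGroup 3 (zpowers aL) :=
    IsPGroup.of_card (n := 1) (by rw [Nat.card_zpowers, pow_one, haL])
  obtain ⟨X, hX⟩ := hXp.exists_le_sylow
  have hCQ : ((Cfsg.pCore 2 L).map L.subtype) ⊓ centralizer
      (((X : Subgroup L).map L.subtype : Subgroup (C ⧸ N)) : Set (C ⧸ N)) = zpowers s := by
    rw [hQmap]
    refine le_antisymm ?_ (zpowers_le.2 ⟨hsPb, ?_⟩)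
    · rintro x ⟨hxP, hxc⟩
      obtain ⟨g, hg, rfl⟩ := hmemPb x hxP
      have h1 := mem_centralizer_iff.1 hxc _ ⟨aL, hX (mem_zpowers aL), rfl⟩
      have h2 : π (⟨a, hKC D.a_mem⟩ * ⟨g, hPC hg⟩ * ⟨a, hKC D.a_mem⟩⁻¹ * ⟨g, hPC hg⟩⁻¹) = 1 := by
        simp only [map_mul, map_inv]
        rw [show π ⟨a, hKC D.a_mem⟩ * π ⟨g, hPC hg⟩ = π ⟨g, hPC hg⟩ * π ⟨a, hKC D.a_mem⟩ from h1,
          mul_inv_cancel_right, mul_inv_cancel]
      rcases hpi4 ⟨g, hPC hg⟩ (D.fix g hg ((hker _).1 h2)) with e | e <;> rw [e]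
      exacts [one_mem _, mem_zpowers s]
    · refine mem_centralizer_iff.2 ?_
      rintro y ⟨x, -, rfl⟩
      exact mem_centralizer_singleton_iff.1 x.2
  -- apply the recognition
  have hnwc : ∃ g : C ⧸ N, g * s * g⁻¹ ∈ (Cfsg.pCore 2 L).map L.subtype ∧ g * s * g⁻¹ ≠ s := by
    let hCe : C := ⟨h, (hCmem h).2 D.h_comm⟩
    refine ⟨π hCe, ?_, fun e => ?_⟩
    · rw [hQmap, hs, ← map_inv, ← map_mul, ← map_mul]
      exact mem_map_of_mem π (show hCe * tC * hCe⁻¹ ∈ P' from D.h_mem)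
    · rw [hs, ← map_inv, ← map_mul, ← map_mul] at e
      exact D.h_ne ((hfour (hCe * tC * hCe⁻¹)).2 (Or.inr e))
  have e6' : L ⧸ Cfsg.pCore 2 L ≃* Equiv.Perm (Fin 3) :=
    (QuotientGroup.quotientMulEquivOfEq hcore).trans e6
  have hn11 : 11 ∣ Nat.card (C ⧸ N) := by
    have h1 : orderOf (⟨n, (hCmem n).2 hnu⟩ : C) = 11 := by rw [← hn, ← Subgroup.orderOf_coe]
    have h2 := card_eq_card_quotient_mul_card_subgroup N
    have h3 : 11 ∣ Nat.card C := h1 ▸ orderOf_dvd_natCard _
    rw [h2, hNcard] at h3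
    exact (Nat.Coprime.dvd_mul_right (by norm_num)).1 h3
  have hcard : Nat.card C = Nat.card (C ⧸ N) * 2 := by
    rw [card_eq_card_quotient_mul_card_subgroup N, hNcard]
  rw [hcard]
  rcases Cfsg.Agent.S3344.result s hord L rfl _ rfl (hQmap ▸ hQex) (by rw [hQmap, hPbcard]) e6' X hCQ
    hnwc with ⟨E, hE, -, -, hE8, ⟨e⟩⟩ | ⟨⟨e⟩⟩ | ⟨⟨e⟩⟩ | ⟨⟨e⟩⟩
  · exfalso
    have h1 := card_eq_card_quotient_mul_card_subgroup E
    rw [hE8, Nat.card_congr e.toEquiv] at h1
    have h2 : Nat.card (Matrix.ProjectiveSpecialLinearGroup (Fin 3) (ZMod 2)) ∣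
        Nat.card (GL (Fin 3) (ZMod 2)) :=
      (Subgroup.card_quotient_dvd_card _).trans
        (Subgroup.card_dvd_of_injective Matrix.SpecialLinearGroup.toGL
          Matrix.SpecialLinearGroup.toGL_injective)
    have hgl : Nat.card (GL (Fin 3) (ZMod 2)) = 168 := by
      rw [Matrix.card_GL_field, Fin.prod_univ_three]
      norm_num [ZMod.card]
    rw [hgl] at h2
    rw [h1] at hn11
    have h4 := hn11.trans (Nat.mul_dvd_mul_right h2 8)
    norm_num at h4
  · exfalso
    rw [Nat.card_congr e.toEquiv, nat_card_alternatingGroup] at hn11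
    norm_num [Nat.factorial] at hn11
  · exfalso
    rw [Nat.card_congr e.toEquiv, nat_card_alternatingGroup] at hn11
    norm_num [Nat.factorial] at hn11
  · rw [Nat.card_congr e.toEquiv, CfsgLib.FusionMathieu.card_M12]

end CfsgLib.CoThreeUnique
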