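import Cfsg.Agent.Lib.CoThreeUnique.Spec
import Cfsg.Agent.Lib.CoThreeUnique.SecondClass
import Cfsg.Agent.Lib.TwoClassEmbedding.Main

/-!
The end of the uniqueness proof: the image of the third Conway group contains the centralisers of
both classes of involutions, so it is the whole group.
-/

set_option autoImplicit false
set_option maxRecDepth 4000

namespace CfsgLib.CoThreeUnique

open Subgroup
open CfsgLib.Sporadic CfsgLib.LeechEight
open CfsgLib.Sporadic.Conway.ThreeOut (GT)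

/-- The facts about the centraliser of `tM` and `eM` used at the end. -/
def EndFacts : Prop :=
  ∃ (P : Subgroup GT) (a k h : GT), (∀ g : GT, g * tM * g⁻¹ ≠ tM * eM) → CoreData tM eM P a k h

/-- The stabiliser model is the third Conway group of the Prelude. -/
theorem nonempty_equiv_coThree : Nonempty (GT ≃* Cfsg.Spor.Co3) := by
  open Cfsg CfsgLib.Sporadic.Conway.ThreeOut in
  have hv : (Spor.leechV : leechLattice) = -vT := by
    refine Subtype.ext ?_
    rw [AddSubgroup.coe_neg, coe_vT]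
    funext k
    show Spor.vecV k = _
    simp only [Spor.vecV, Pi.neg_apply]
    split_ifs <;> rfl
  open Cfsg CfsgLib.Sporadic.Conway.ThreeOut in
  have hmap : GT.map Co0.subtype = Spor.Co3 := by
    ext g
    simp only [Subgroup.mem_map, Spor.Co3, Subgroup.mem_inf, MulAction.mem_stabilizer_iff, hv]
    constructor
    · rintro ⟨w, hw, rfl⟩
      refine ⟨w.2, ?_⟩
      show w • -vT = -vT
      rw [CfsgLib.MonsterType.smul_neg', hw]
    · rintro ⟨hg, hgv⟩
      refine ⟨⟨g, hg⟩, ?_, rfl⟩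
      have h2 : (⟨g, hg⟩ : Co0) • -vT = -vT := hgv
      rw [CfsgLib.MonsterType.smul_neg'] at h2
      exact neg_injective h2
  exact ⟨(GT.equivMapOfInjective _ (Subgroup.subtype_injective _)).trans
    (MulEquiv.subgroupCongr hmap)⟩

/-- Every involution of the model is conjugate into `Cc`. -/
theorem exists_conj_mem_Cc (hF : ModelFacts) {y : GT} (hy : orderOf y = 2) :
    ∃ g : GT, g * y * g⁻¹ ∈ Cc := by
  have := Conway.ThreeOut.finite_GT
  have : Fact (Nat.Prime 2) := ⟨Nat.prime_two⟩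
  obtain ⟨S⟩ : Nonempty (Sylow 2 Cc) := inferInstance
  have hS : Nat.card ((S : Subgroup Cc).map Cc.subtype) = 2 ^ 10 := by
    rw [Nat.card_congr (Subgroup.equivMapOfInjective _ _ Cc.subtype_injective).toEquiv.symm,
      S.card_eq_multiplicity, hF.card_Cc,
      show (2903040 : ℕ) = 2 ^ 10 * 2835 by norm_num, Nat.factorization_mul (by norm_num) (by norm_num),
      Nat.Prime.factorization_pow Nat.prime_two]
    simp [Nat.factorization_eq_zero_of_not_dvd]
  let S' : Sylow 2 GT := Sylow.ofCard ((S : Subgroup Cc).map Cc.subtype) (by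
    rw [hS, Conway.ThreeOut.card_GT, show (495766656000 : ℕ) = 2 ^ 10 * 484147125 by norm_num,
      Nat.factorization_mul (by norm_num) (by norm_num), Nat.Prime.factorization_pow Nat.prime_two]
    simp [Nat.factorization_eq_zero_of_not_dvd])
  have hyp : IsPGroup 2 (zpowers y) :=
    IsPGroup.of_card (n := 1) (by rw [Nat.card_zpowers, pow_one, hy])
  obtain ⟨R, hR⟩ := hyp.exists_le_sylow
  obtain ⟨g, hg⟩ := MulAction.exists_smul_eq GT R S'
  refine ⟨g, ?_⟩
  have h1 : g * y * g⁻¹ ∈ ((g • R : Sylow 2 GT) : Subgroup GT) := by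
    rw [Sylow.coe_subgroup_smul]
    exact Subgroup.smul_mem_pointwise_smul y (MulAut.conj g) _ (hR (mem_zpowers y))
  rw [hg] at h1
  exact Subgroup.map_subtype_le _ h1

/-- The classes of involutions of the model. -/
theorem involution_cases (hF : ModelFacts) {y : GT} (hy : orderOf y = 2) :
    ∃ g : GT, g * y * g⁻¹ = tM ∨ g * y * g⁻¹ = eM := by
  obtain ⟨g, hg⟩ := exists_conj_mem_Cc hF hy
  have h2 : g * y * g⁻¹ * (g * y * g⁻¹) = 1 :=
    CfsgLib.Involutions.mul_self_eq_one ((CfsgLib.Involutions.orderOf_conj_eq g y).trans hy)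
  rcases hF.inv_classes _ hg h2 with e | e | ⟨c, -, e⟩ | ⟨c, -, e⟩
  · exact absurd (conj_eq_one_iff.1 e) (CfsgLib.Involutions.ne_one_of_involution hy)
  · exact ⟨g, Or.inl e⟩
  · refine ⟨gM * c⁻¹ * g, Or.inl ?_⟩
    calc gM * c⁻¹ * g * y * (gM * c⁻¹ * g)⁻¹ = gM * c⁻¹ * (g * y * g⁻¹) * c * gM⁻¹ := by group
      _ = gM * sM * gM⁻¹ := by rw [← e]; group
      _ = tM := hF.gM_sM
  · refine ⟨c⁻¹ * g, Or.inr ?_⟩
    calc c⁻¹ * g * y * (c⁻¹ * g)⁻¹ = c⁻¹ * (g * y * g⁻¹) * c := by group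
      _ = eM := by rw [← e]; group

/-- The image of the model is the whole group. -/
theorem main.{u} (hF : ModelFacts) (hE : EndFacts) (hB : BoundStatement.{u}) {G : Type u} [Group G]
    [Finite G] (A : Amalgam G) (t : G) (htc : tM ∈ Cc) (hec : eM ∈ Cc) (hθt : A.θ ⟨tM, htc⟩ = t)
    (hrange : Set.range A.θ = centralizer ({t} : Set G))
    (hu : ∀ g : G, g * A.θ ⟨eM, hec⟩ * g⁻¹ ≠ t) : Cfsg.Spor.IsoCo3 G := by
  have := Conway.ThreeOut.finite_GT
  obtain ⟨Φ, hΦc, -⟩ := hB A
  have hΦt : Φ tM = t := (hΦc ⟨tM, htc⟩).trans hθt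
  have hΦe : Φ eM = A.θ ⟨eM, hec⟩ := hΦc ⟨eM, hec⟩
  rw [← hΦe] at hu
  have ht2 : orderOf t = 2 := by
    rw [← hθt, orderOf_injective _ A.θ_injective, ← Subgroup.orderOf_coe]
    exact hF.order_tM
  have hinj : Function.Injective Φ := by
    have := isSimpleGroup_GT
    rcases Φ.normal_ker.eq_bot_or_eq_top with e | e
    · exact (MonoidHom.ker_eq_bot_iff Φ).1 e
    · exfalso
      have h1 : Φ tM = 1 := MonoidHom.mem_ker.1 (e ▸ Subgroup.mem_top _)
      rw [hΦt] at h1
      exact CfsgLib.Involutions.ne_one_of_involution ht2 h1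
  set u := Φ eM with hu_def
  have hu2 : orderOf u = 2 := by rw [hu_def, orderOf_injective Φ hinj, hF.order_eM]
  have hCt : ∀ g : G, Commute g t → ∃ c ∈ Cc, Φ c = g := by
    intro g hg
    have h1 : g ∈ Set.range A.θ := by
      rw [hrange]
      exact mem_centralizer_singleton_iff.2 hg.eq
    obtain ⟨c, rfl⟩ := h1
    exact ⟨c, c.2, hΦc c⟩
  have hcent : centralizer ({Φ tM, u} : Set G) = (centralizer ({tM, eM} : Set GT)).map Φ := by
    ext g
    constructor
    · intro hg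
      obtain ⟨c, -, rfl⟩ := hCt g (hΦt ▸ (mem_centralizer_iff.1 hg _ (Or.inl rfl)).symm)
      refine mem_map_of_mem Φ (mem_centralizer_iff.2 ?_)
      rintro y (rfl | rfl) <;> refine hinj ?_ <;> rw [map_mul, map_mul]
      exacts [mem_centralizer_iff.1 hg _ (Or.inl rfl), mem_centralizer_iff.1 hg _ (Or.inr rfl)]
    · rintro ⟨c, hc, rfl⟩
      refine mem_centralizer_iff.2 ?_
      rintro y (rfl | rfl)
      · rw [← map_mul, ← map_mul]
        exact congrArg Φ (mem_centralizer_iff.1 hc _ (Or.inl rfl))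
      · rw [hu_def, ← map_mul, ← map_mul]
        exact congrArg Φ (mem_centralizer_iff.1 hc _ (Or.inr rfl))
  have hswapG : ∀ g : G, g * Φ tM * g⁻¹ ≠ Φ tM * u := by
    intro g hg
    obtain ⟨c, -, hc⟩ := hF.eM_swap
    refine hu (g⁻¹ * Φ c) ?_
    calc g⁻¹ * Φ c * u * (g⁻¹ * Φ c)⁻¹ = g⁻¹ * (Φ c * u * (Φ c)⁻¹) * g := by group
      _ = g⁻¹ * (Φ tM * u) * g := by rw [hu_def, ← map_inv, ← map_mul, ← map_mul, ← map_mul, hc]
      _ = t := by rw [← hg, ← hΦt]; group
  have hswap : ∀ g : GT, g * tM * g⁻¹ ≠ tM * eM := fun g hg =>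
    hswapG (Φ g) (by rw [hu_def, ← map_inv, ← map_mul, ← map_mul, ← map_mul, hg])
  obtain ⟨P, a, k, h, hD⟩ := hE
  have D := hD hswap
  have h0 := D.card_centralizer hF.order_nM (show Commute nM eM from hF.nM_comm)
  have h1 := (D.map Φ hinj hcent hswapG).card_centralizer (n := Φ nM)
    (by rw [orderOf_injective Φ hinj, hF.order_nM]) (Commute.map hF.nM_comm Φ)
  have hCu : centralizer ({u} : Set G) = (centralizer ({eM} : Set GT)).map Φ := by
    refine (eq_of_le_of_card_ge ?_ ?_).symm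
    · rintro _ ⟨c, hc, rfl⟩
      refine mem_centralizer_singleton_iff.2 ?_
      rw [hu_def, ← map_mul, ← map_mul, mem_centralizer_singleton_iff.1 hc]
    · rw [h1, Nat.card_congr (Subgroup.equivMapOfInjective _ Φ hinj).toEquiv.symm, h0]
  have htop : Φ.range = ⊤ := by
    refine CfsgLib.TwoClassEmbedding.eq_top_of_two_classes (t := t) (u := u) ⟨tM, hΦt⟩ ⟨eM, rfl⟩
      ht2 hu2 ?_ ?_ ?_ ?_
    · intro hc
      obtain ⟨g, hg⟩ := isConj_iff.1 hc.symm
      exact hu g hg
    · intro g hg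
      obtain ⟨c, -, rfl⟩ := hCt g hg
      exact ⟨c, rfl⟩
    · intro g hg
      have h2 : g ∈ centralizer ({u} : Set G) := mem_centralizer_singleton_iff.2 hg.eq
      rw [hCu] at h2
      obtain ⟨c, -, rfl⟩ := h2
      exact ⟨c, rfl⟩
    · rintro _ ⟨y, rfl⟩ hy
      rw [orderOf_injective Φ hinj] at hy
      obtain ⟨g, e | e⟩ := involution_cases hF hy <;> refine ⟨Φ g, ⟨g, rfl⟩, ?_⟩
      · exact Or.inl (by rw [← hΦt, ← e, map_mul, map_mul, map_inv])
      · exact Or.inr (by rw [hu_def, ← e, map_mul, map_mul, map_inv])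
  obtain ⟨e3⟩ := nonempty_equiv_coThree
  exact ⟨(MulEquiv.ofBijective Φ ⟨hinj, MonoidHom.range_eq_top.1 htop⟩).symm.trans e3⟩

end CfsgLib.CoThreeUnique
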