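import Cfsg.Agent.Lib.CoThreeUnique.LocalFusion
import Cfsg.Agent.Lib.CoThreeUnique.Endgame

/-!
The third Conway group from an involution centraliser, given the facts on the model and the bound.
-/

set_option autoImplicit false

namespace CfsgLib.CoThreeUnique

theorem iso_of_facts.{u} (hF : ModelFacts) (hE : EndFacts) (hB : BoundStatement.{u}) {G : Type u}
    [Group G] [Finite G] (hO : Cfsg.oddCore G = ⊥) (hZ : Subgroup.center G = ⊥) (t : G)
    (ht : orderOf t = 2)
    (hC : Cfsg.IsNonsplitDoubleCover (Subgroup.centralizer ({t} : Set G))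
      (Matrix.symplecticGroup (Fin 3) (ZMod 2))) : Cfsg.Spor.IsoCo3 G := by
  obtain ⟨A, hrange, hθt, hu⟩ := exists_amalgam hF hO hZ t ht hC
  have htc : tM ∈ Cc := Subgroup.mem_centralizer_singleton_iff.2 rfl
  exact main hF hE hB A t htc hF.eM_mem (hθt htc) hrange (hu hF.eM_mem)

end CfsgLib.CoThreeUnique
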