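import Cfsg.Agent.Lib.DMult.SpSixUpper
import Cfsg.Prelude.Def_SporadicB

/-!
# Uniqueness of the non-split double cover of `Sp₆(2)`
-/

set_option autoImplicit false

namespace CfsgLib.CoThreeUnique

open Matrix
open scoped commutatorElement

/-- Central factors disappear in commutators. -/
theorem comm_mul_center {P : Type*} [Group P] (a b : P) {z w : P} (hz : z ∈ Subgroup.center P)
    (hw : w ∈ Subgroup.center P) : ⁅a * z, b * w⁆ = ⁅a, b⁆ := by
  have c1 : ∀ g, z * g = g * z := fun g => (Subgroup.mem_center_iff.1 hz g).symm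
  have c2 : ∀ g, w * g = g * w := fun g => (Subgroup.mem_center_iff.1 hw g).symm
  rw [commutatorElement_def, commutatorElement_def]
  calc a * z * (b * w) * (a * z)⁻¹ * (b * w)⁻¹
      = a * (z * b) * w * z⁻¹ * a⁻¹ * w⁻¹ * b⁻¹ := by group
    _ = a * b * (z * w) * z⁻¹ * a⁻¹ * w⁻¹ * b⁻¹ := by rw [c1 b]; group
    _ = a * b * (w * z) * z⁻¹ * a⁻¹ * w⁻¹ * b⁻¹ := by rw [c1 w]
    _ = a * b * (w * a⁻¹) * w⁻¹ * b⁻¹ := by group
    _ = a * b * (a⁻¹ * w) * w⁻¹ * b⁻¹ := by rw [c2 a⁻¹]
    _ = a * b * a⁻¹ * b⁻¹ := by group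

/-- The derived group of a central extension of a perfect group covers it and is perfect. -/
theorem cover_derived_perfect {P Q : Type*} [Group P] [Group Q] (σ : P →* Q)
    (hσ : Function.Surjective σ) (hc : σ.ker ≤ Subgroup.center P) (hQ : commutator Q = ⊤) :
    Function.Surjective (σ.comp (commutator P).subtype) ∧ commutator ↥(commutator P) = ⊤ := by
  have hmap : (commutator P).map σ = ⊤ := by
    rw [commutator_def, Subgroup.map_commutator, Subgroup.map_top_of_surjective σ hσ,
      ← commutator_def, hQ]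
  have hsurj : Function.Surjective (σ.comp (commutator P).subtype) := fun g => by
    obtain ⟨x, hx, rfl⟩ := (hmap.ge (Subgroup.mem_top g) : g ∈ (commutator P).map σ)
    exact ⟨⟨x, hx⟩, rfl⟩
  refine ⟨hsurj, top_unique fun x _ => ?_⟩
  have h : commutator P ≤ (commutator ↥(commutator P)).map (commutator P).subtype := by
    refine (commutator_def P).trans_le (Subgroup.commutator_le.2 fun a _ b _ => ?_)
    obtain ⟨a', ha'⟩ := hsurj (σ a)
    obtain ⟨b', hb'⟩ := hsurj (σ b)
    obtain ⟨z, hz, rfl⟩ : ∃ z ∈ Subgroup.center P, a = a' * z :=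
      ⟨(a' : P)⁻¹ * a, hc (by
        rw [MonoidHom.mem_ker, map_mul, map_inv, show σ (a' : P) = σ a from ha', inv_mul_cancel]),
        (mul_inv_cancel_left _ _).symm⟩
    obtain ⟨w, hw, rfl⟩ : ∃ w ∈ Subgroup.center P, b = b' * w :=
      ⟨(b' : P)⁻¹ * b, hc (by
        rw [MonoidHom.mem_ker, map_mul, map_inv, show σ (b' : P) = σ b from hb', inv_mul_cancel]),
        (mul_inv_cancel_left _ _).symm⟩
    refine ⟨⁅a', b'⁆, Subgroup.commutator_mem_commutator (Subgroup.mem_top _)
      (Subgroup.mem_top _), ?_⟩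
    rw [map_commutatorElement]
    exact (comm_mul_center _ _ hz hw).symm
  obtain ⟨y, hy, e⟩ := h x.2
  rwa [← Subtype.ext (show (y : P) = x from e)]

/-- A non-split double cover of a perfect group without centre is perfect. -/
theorem perfect_of_cover {H Q : Type*} [Group H] [Group Q] (π : H →* Q)
    (hπ : Function.Surjective π) (hk : π.ker = Subgroup.center H)
    (hcard : Nat.card (Subgroup.center H) = 2) (hQ : commutator Q = ⊤)
    (hns : ∀ L : Subgroup H, ¬ (Subgroup.center H).IsComplement' L) : commutator H = ⊤ := by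
  obtain ⟨hs, -⟩ := cover_derived_perfect π hπ hk.le hQ
  have hsup : ∀ h : H, ∃ z ∈ Subgroup.center H, ∃ l ∈ commutator H, z * l = h := fun h => by
    obtain ⟨l, hl⟩ := hs (π h)
    refine ⟨h * (l : H)⁻¹, hk ▸ ?_, l, l.2, inv_mul_cancel_right _ _⟩
    rw [MonoidHom.mem_ker, map_mul, map_inv, show π (l : H) = π h from hl, mul_inv_cancel]
  by_cases hle : Subgroup.center H ≤ commutator H
  · refine top_unique fun h _ => ?_
    obtain ⟨z, hz, l, hl, rfl⟩ := hsup h
    exact mul_mem (hle hz) hl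
  refine absurd ?_ (hns (commutator H))
  refine Subgroup.isComplement'_of_disjoint_and_mul_eq_univ ?_ ?_
  · rw [disjoint_iff, eq_bot_iff]
    rintro z ⟨hz, hz'⟩
    by_contra hz1
    refine hle fun w hw => ?_
    obtain ⟨p, hp, huniq⟩ := (Nat.card_eq_two_iff' (1 : ↥(Subgroup.center H))).1 hcard
    have hne : (⟨z, hz⟩ : ↥(Subgroup.center H)) ≠ 1 := fun e => hz1 (by
      rw [Subgroup.mem_bot]; exact congrArg Subtype.val e)
    have key : ∀ u : ↥(Subgroup.center H), u = 1 ∨ u = ⟨z, hz⟩ := fun u =>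
      (eq_or_ne u 1).imp id fun hu => (huniq u hu).trans (huniq _ hne).symm
    rcases key ⟨w, hw⟩ with e | e
    · rw [show w = 1 from congrArg Subtype.val e]; exact one_mem _
    · rw [show w = z from congrArg Subtype.val e]; exact hz'
  · refine Set.eq_univ_of_forall fun h => ?_
    obtain ⟨z, hz, l, hl, e⟩ := hsup h
    exact Set.mem_mul.2 ⟨z, hz, l, hl, e⟩

/-- A homomorphism from a cover of order at most `2|Q|` onto a double cover is bijective. -/
theorem bijective_of_cover {E L Q : Type*} [Group E] [Group L] [Group Q] [Finite E] [Finite L]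
    (τ : E →* Q) (hτ : Function.Surjective τ) (hcardE : Nat.card E ≤ 2 * Nat.card Q)
    (πL : L →* Q) (hsL : Function.Surjective πL) (hkL : πL.ker = Subgroup.center L)
    (hcL : Nat.card (Subgroup.center L) = 2) (hpL : commutator L = ⊤) (f : E →* L)
    (hf : πL.comp f = τ) : Function.Bijective f := by
  have hsurj : Function.Surjective f := by
    rw [← MonoidHom.range_eq_top, eq_top_iff, ← hpL, commutator_def, Subgroup.commutator_le]
    intro a _ b _
    obtain ⟨x, hx⟩ := hτ (πL a)
    obtain ⟨y, hy⟩ := hτ (πL b)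
    have hx' : πL (f x) = πL a := (DFunLike.congr_fun hf x).trans hx
    have hy' : πL (f y) = πL b := (DFunLike.congr_fun hf y).trans hy
    obtain ⟨z, hz, rfl⟩ : ∃ z ∈ Subgroup.center L, a = f x * z :=
      ⟨(f x)⁻¹ * a, hkL ▸ (by rw [MonoidHom.mem_ker, map_mul, map_inv, hx', inv_mul_cancel]),
        (mul_inv_cancel_left _ _).symm⟩
    obtain ⟨w, hw, rfl⟩ : ∃ w ∈ Subgroup.center L, b = f y * w :=
      ⟨(f y)⁻¹ * b, hkL ▸ (by rw [MonoidHom.mem_ker, map_mul, map_inv, hy', inv_mul_cancel]),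
        (mul_inv_cancel_left _ _).symm⟩
    refine ⟨⁅x, y⁆, ?_⟩
    rw [map_commutatorElement]
    exact (comm_mul_center _ _ hz hw).symm
  refine (Nat.bijective_iff_surjective_and_card f).2 ⟨hsurj, ?_⟩
  have h1 := Subgroup.card_mul_index πL.ker
  rw [Subgroup.index_ker, MonoidHom.range_eq_top.2 hsL, Subgroup.card_top, hkL, hcL] at h1
  have h2 := Nat.card_le_card_of_surjective f hsurj
  omega

/-- Any two non-split double covers of `Sp₆(2)` are isomorphic. -/
theorem nonempty_equiv_of_cover {H K : Type*} [Group H] [Group K] [Finite H] [Finite K]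
    (hH : Cfsg.IsNonsplitDoubleCover H (Matrix.symplecticGroup (Fin 3) (ZMod 2)))
    (hK : Cfsg.IsNonsplitDoubleCover K (Matrix.symplecticGroup (Fin 3) (ZMod 2))) :
    Nonempty (H ≃* K) := by
  have h01 : ∀ x : ZMod 2, x = 0 ∨ x = 1 := DMult.SpSix.two_elts (ZMod.card 2)
  have hQ : commutator (symplecticGroup (Fin 3) (ZMod 2)) = ⊤ :=
    Sp.commutator_eq_top_of_card (ZMod.card 2) (Or.inr (Or.inr ⟨rfl, le_rfl⟩))
  obtain ⟨hHc, ⟨eH⟩, hHs⟩ := hH
  obtain ⟨hKc, ⟨eK⟩, hKs⟩ := hK
  let πH : H →* symplecticGroup (Fin 3) (ZMod 2) :=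
    eH.toMonoidHom.comp (QuotientGroup.mk' (Subgroup.center H))
  let πK : K →* symplecticGroup (Fin 3) (ZMod 2) :=
    eK.toMonoidHom.comp (QuotientGroup.mk' (Subgroup.center K))
  have hsH : Function.Surjective πH := eH.surjective.comp (QuotientGroup.mk'_surjective _)
  have hsK : Function.Surjective πK := eK.surjective.comp (QuotientGroup.mk'_surjective _)
  have hkH : πH.ker = Subgroup.center H := by
    ext x
    simp [πH]
  have hkK : πK.ker = Subgroup.center K := by
    ext x
    simp [πK]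
  -- the fibre product and its derived group
  let P : Subgroup (H × K) :=
    MonoidHom.eqLocus (πH.comp (MonoidHom.fst H K)) (πK.comp (MonoidHom.snd H K))
  let σ : ↥P →* symplecticGroup (Fin 3) (ZMod 2) :=
    (πH.comp (MonoidHom.fst H K)).comp P.subtype
  have hσ : Function.Surjective σ := fun g => by
    obtain ⟨h, rfl⟩ := hsH g
    obtain ⟨k, hk⟩ := hsK (πH h)
    exact ⟨⟨(h, k), hk.symm⟩, rfl⟩
  have hσc : σ.ker ≤ Subgroup.center ↥P := fun x hx => Subgroup.mem_center_iff.2 fun y => by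
    have h1 : x.1.1 ∈ Subgroup.center H := hkH ▸ hx
    have h2 : x.1.2 ∈ Subgroup.center K := hkK ▸ (by
      have := x.2
      rw [MonoidHom.mem_ker]
      exact this.symm.trans hx)
    exact Subtype.ext (Prod.ext (Subgroup.mem_center_iff.1 h1 _) (Subgroup.mem_center_iff.1 h2 _))
  obtain ⟨hτ, hperf⟩ := cover_derived_perfect σ hσ hσc hQ
  let τ : ↥(commutator ↥P) →* symplecticGroup (Fin 3) (ZMod 2) := σ.comp (commutator ↥P).subtype
  have hτc : τ.ker ≤ Subgroup.center ↥(commutator ↥P) := fun x hx =>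
    Subgroup.mem_center_iff.2 fun y => Subtype.ext (Subgroup.mem_center_iff.1 (hσc hx) y.1)
  obtain ⟨e, he, hker⟩ := DMult.SpSix.exists_generator h01 τ hτ hτc hperf
  have hkcard : Nat.card τ.ker ≤ 2 := by
    rw [hker, Nat.card_zpowers]
    exact orderOf_le_of_pow_eq_one two_pos (by rw [pow_two, he])
  have hcardE : Nat.card ↥(commutator ↥P) ≤ 2 * Nat.card (symplecticGroup (Fin 3) (ZMod 2)) := by
    rw [← Subgroup.card_mul_index τ.ker, Subgroup.index_ker, MonoidHom.range_eq_top.2 hτ,
      Subgroup.card_top]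
    exact Nat.mul_le_mul_right _ hkcard
  have bH := bijective_of_cover τ hτ hcardE πH hsH hkH hHc (perfect_of_cover πH hsH hkH hHc hQ hHs)
    (((MonoidHom.fst H K).comp P.subtype).comp (commutator ↥P).subtype) rfl
  have bK := bijective_of_cover τ hτ hcardE πK hsK hkK hKc (perfect_of_cover πK hsK hkK hKc hQ hKs)
    (((MonoidHom.snd H K).comp P.subtype).comp (commutator ↥P).subtype)
    (by ext1 x; exact (x.1.2).symm)
  exact ⟨(MulEquiv.ofBijective _ bH).symm.trans (MulEquiv.ofBijective _ bK)⟩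

end CfsgLib.CoThreeUnique
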