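import Cfsg.Agent.Lib.CoThreeUnique.Model

/-!
Named elements and subgroups of the third Conway group used for its uniqueness from an involution centraliser.
-/

set_option autoImplicit false
set_option maxRecDepth 100000

namespace CfsgLib.CoThreeUnique

open CfsgLib.Sporadic.PairOut (stepRows)
open CfsgLib.Sporadic.Conway.ThreeOut (GT)
open scoped Pointwise

theorem tM_ok : elemOK Data.tMRows = true := by decide +kernel

/-- `tM`: the central involution (36 fixed pairs). -/
noncomputable def tM : GT := mkEl tM_ok

theorem tM_good : goodOK (stepRows Data.tMRows) Data.tMCode = true := by decide +kernel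

theorem rho_tM (i : Fin 276) : (rho tM i : ℕ) = pimg Data.tMCode i := rho_mkEl tM_ok tM_good i

theorem sM_ok : elemOK Data.sMRows = true := by decide +kernel

/-- `sM`: an involution of the same class commuting with `tM`. -/
noncomputable def sM : GT := mkEl sM_ok

theorem sM_good : goodOK (stepRows Data.sMRows) Data.sMCode = true := by decide +kernel

theorem rho_sM (i : Fin 276) : (rho sM i : ℕ) = pimg Data.sMCode i := rho_mkEl sM_ok sM_good i

theorem gM_ok : elemOK Data.gMRows = true := by decide +kernel

/-- `gM`: an element of order three cycling `tM, sM, tM * sM`. -/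
noncomputable def gM : GT := mkEl gM_ok

theorem gM_good : goodOK (stepRows Data.gMRows) Data.gMCode = true := by decide +kernel

theorem rho_gM (i : Fin 276) : (rho gM i : ℕ) = pimg Data.gMCode i := rho_mkEl gM_ok gM_good i

theorem eM_ok : elemOK Data.eMRows = true := by decide +kernel

/-- `eM`: an involution of the second class (12 fixed pairs) commuting with `tM`. -/
noncomputable def eM : GT := mkEl eM_ok

theorem eM_good : goodOK (stepRows Data.eMRows) Data.eMCode = true := by decide +kernel

theorem rho_eM (i : Fin 276) : (rho eM i : ℕ) = pimg Data.eMCode i := rho_mkEl eM_ok eM_good i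

theorem x0_ok : elemOK Data.x0Rows = true := by decide +kernel

/-- `x0`: one of seven lifted transvections generating the centraliser. -/
noncomputable def x0 : GT := mkEl x0_ok

theorem x0_good : goodOK (stepRows Data.x0Rows) Data.x0Code = true := by decide +kernel

theorem rho_x0 (i : Fin 276) : (rho x0 i : ℕ) = pimg Data.x0Code i := rho_mkEl x0_ok x0_good i

theorem x1_ok : elemOK Data.x1Rows = true := by decide +kernel

/-- `x1`: one of seven lifted transvections generating the centraliser. -/
noncomputable def x1 : GT := mkEl x1_ok

theorem x1_good : goodOK (stepRows Data.x1Rows) Data.x1Code = true := by decide +kernel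

theorem rho_x1 (i : Fin 276) : (rho x1 i : ℕ) = pimg Data.x1Code i := rho_mkEl x1_ok x1_good i

theorem x2_ok : elemOK Data.x2Rows = true := by decide +kernel

/-- `x2`: one of seven lifted transvections generating the centraliser. -/
noncomputable def x2 : GT := mkEl x2_ok

theorem x2_good : goodOK (stepRows Data.x2Rows) Data.x2Code = true := by decide +kernel

theorem rho_x2 (i : Fin 276) : (rho x2 i : ℕ) = pimg Data.x2Code i := rho_mkEl x2_ok x2_good i

theorem x3_ok : elemOK Data.x3Rows = true := by decide +kernel

/-- `x3`: one of seven lifted transvections generating the centraliser. -/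
noncomputable def x3 : GT := mkEl x3_ok

theorem x3_good : goodOK (stepRows Data.x3Rows) Data.x3Code = true := by decide +kernel

theorem rho_x3 (i : Fin 276) : (rho x3 i : ℕ) = pimg Data.x3Code i := rho_mkEl x3_ok x3_good i

theorem x4_ok : elemOK Data.x4Rows = true := by decide +kernel

/-- `x4`: one of seven lifted transvections generating the centraliser. -/
noncomputable def x4 : GT := mkEl x4_ok

theorem x4_good : goodOK (stepRows Data.x4Rows) Data.x4Code = true := by decide +kernel

theorem rho_x4 (i : Fin 276) : (rho x4 i : ℕ) = pimg Data.x4Code i := rho_mkEl x4_ok x4_good i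

theorem x5_ok : elemOK Data.x5Rows = true := by decide +kernel

/-- `x5`: one of seven lifted transvections generating the centraliser. -/
noncomputable def x5 : GT := mkEl x5_ok

theorem x5_good : goodOK (stepRows Data.x5Rows) Data.x5Code = true := by decide +kernel

theorem rho_x5 (i : Fin 276) : (rho x5 i : ℕ) = pimg Data.x5Code i := rho_mkEl x5_ok x5_good i

theorem x6_ok : elemOK Data.x6Rows = true := by decide +kernel

/-- `x6`: one of seven lifted transvections generating the centraliser. -/
noncomputable def x6 : GT := mkEl x6_ok

theorem x6_good : goodOK (stepRows Data.x6Rows) Data.x6Code = true := by decide +kernel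

theorem rho_x6 (i : Fin 276) : (rho x6 i : ℕ) = pimg Data.x6Code i := rho_mkEl x6_ok x6_good i

theorem eE0_ok : elemOK Data.eE0Rows = true := by decide +kernel

/-- `eE0`: one of four generators of the elementary abelian subgroup of order sixteen. -/
noncomputable def eE0 : GT := mkEl eE0_ok

theorem eE0_good : goodOK (stepRows Data.eE0Rows) Data.eE0Code = true := by decide +kernel

theorem rho_eE0 (i : Fin 276) : (rho eE0 i : ℕ) = pimg Data.eE0Code i := rho_mkEl eE0_ok eE0_good i

theorem eE1_ok : elemOK Data.eE1Rows = true := by decide +kernel

/-- `eE1`: one of four generators of the elementary abelian subgroup of order sixteen. -/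
noncomputable def eE1 : GT := mkEl eE1_ok

theorem eE1_good : goodOK (stepRows Data.eE1Rows) Data.eE1Code = true := by decide +kernel

theorem rho_eE1 (i : Fin 276) : (rho eE1 i : ℕ) = pimg Data.eE1Code i := rho_mkEl eE1_ok eE1_good i

theorem eE2_ok : elemOK Data.eE2Rows = true := by decide +kernel

/-- `eE2`: one of four generators of the elementary abelian subgroup of order sixteen. -/
noncomputable def eE2 : GT := mkEl eE2_ok

theorem eE2_good : goodOK (stepRows Data.eE2Rows) Data.eE2Code = true := by decide +kernel

theorem rho_eE2 (i : Fin 276) : (rho eE2 i : ℕ) = pimg Data.eE2Code i := rho_mkEl eE2_ok eE2_good i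

theorem eE3_ok : elemOK Data.eE3Rows = true := by decide +kernel

/-- `eE3`: one of four generators of the elementary abelian subgroup of order sixteen. -/
noncomputable def eE3 : GT := mkEl eE3_ok

theorem eE3_good : goodOK (stepRows Data.eE3Rows) Data.eE3Code = true := by decide +kernel

theorem rho_eE3 (i : Fin 276) : (rho eE3 i : ℕ) = pimg Data.eE3Code i := rho_mkEl eE3_ok eE3_good i

theorem nM_ok : elemOK Data.nMRows = true := by decide +kernel

/-- `nM`: an element of order eleven commuting with `eM`. -/
noncomputable def nM : GT := mkEl nM_ok

theorem nM_good : goodOK (stepRows Data.nMRows) Data.nMCode = true := by decide +kernel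

theorem rho_nM (i : Fin 276) : (rho nM i : ℕ) = pimg Data.nMCode i := rho_mkEl nM_ok nM_good i

/-- The centraliser of `tM`, the double cover of Sp6(2). -/
abbrev Cc : Subgroup GT := Subgroup.centralizer {tM}

/-- The elementary abelian subgroup of order sixteen. -/
noncomputable abbrev EM : Subgroup GT := Subgroup.closure {eE0, eE1, eE2, eE3}

/-- The normaliser of `EM`, a group 2^4.A8. -/
noncomputable abbrev NE : Subgroup GT := Subgroup.normalizer (EM : Set GT)

/-- The centraliser of the four group on `tM`, `sM`. -/
abbrev D1 : Subgroup GT := Subgroup.centralizer {tM, sM}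

end CfsgLib.CoThreeUnique
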