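import Cfsg.Prelude.Def_SporadicB
import Cfsg.Agent.Lib.CoThreeUnique.Elements

/-!
The interfaces between the computations in the third Conway group and the uniqueness argument:
`ModelFacts` (proved by computation on the model), `Amalgam` (produced by the local analysis in an
arbitrary group) and `BoundStatement` (the universal property proved by the orbit certificate).
-/

set_option autoImplicit false

namespace CfsgLib.CoThreeUnique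

open CfsgLib.Sporadic.Conway.ThreeOut (GT)

/-- The centraliser of `tM` and `eM`. -/
abbrev K1 : Subgroup GT := Subgroup.centralizer {tM, eM}

/-- The facts about the explicit elements and subgroups of the model. -/
structure ModelFacts : Prop where
  order_tM : orderOf tM = 2
  order_sM : orderOf sM = 2
  order_eM : orderOf eM = 2
  card_Cc : Nat.card Cc = 2903040
  cover : Cfsg.IsNonsplitDoubleCover Cc (Matrix.symplecticGroup (Fin 3) (ZMod 2))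
  center_Cc : ∀ z ∈ Cc, (∀ c ∈ Cc, c * z = z * c) → z = 1 ∨ z = tM
  sM_mem : sM ∈ Cc
  eM_mem : eM ∈ Cc
  sM_ne : sM ≠ tM
  eM_ne : eM ≠ tM
  inv_classes : ∀ x ∈ Cc, x * x = 1 →
    x = 1 ∨ x = tM ∨ (∃ c ∈ Cc, c * sM * c⁻¹ = x) ∨ (∃ c ∈ Cc, c * eM * c⁻¹ = x)
  sM_swap : ∃ c ∈ Cc, c * sM * c⁻¹ = tM * sM
  eM_swap : ∃ c ∈ Cc, c * eM * c⁻¹ = tM * eM
  card_D1 : Nat.card D1 = 4608
  card_K1 : Nat.card K1 = 384
  square_tM : ∃ d ∈ K1, d * d = tM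
  not_square_eM : ∀ d ∈ K1, d * d ≠ eM
  card_EM : Nat.card EM = 16
  sq_EM : ∀ e ∈ EM, e * e = 1
  tM_mem_EM : tM ∈ EM
  sM_mem_EM : sM ∈ EM
  class_EM : ∀ e ∈ EM, e ≠ 1 → e ≠ tM → ∃ c ∈ Cc ⊓ NE, c * sM * c⁻¹ = e
  cent_EM : Subgroup.centralizer (EM : Set GT) = EM
  unique_EM : ∀ F : Subgroup GT, F ≤ Cc → Nat.card F = 16 → (∀ x ∈ F, x * x = 1) → tM ∈ F →
    (∀ x ∈ F, x ≠ 1 → x ≠ tM → ∃ c ∈ Cc, c * sM * c⁻¹ = x) → ∃ c ∈ Cc, ∀ x ∈ F, c * x * c⁻¹ ∈ EM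
  card_NC : Nat.card (Cc ⊓ NE : Subgroup GT) = 21504
  gauge : ∀ α : (Cc ⊓ NE : Subgroup GT) ≃* (Cc ⊓ NE : Subgroup GT),
    (∀ q : (Cc ⊓ NE : Subgroup GT), (q : GT) ∈ EM → α q = q) →
    (∀ q : (Cc ⊓ NE : Subgroup GT), (q : GT)⁻¹ * α q ∈ EM) →
    ∃ f ∈ EM, ∀ q : (Cc ⊓ NE : Subgroup GT), (α q : GT) = f * q * f⁻¹
  gM_mem : gM ∈ NE
  gM_pow : gM ^ 3 = 1
  gM_tM : gM * tM * gM⁻¹ = tM * sM
  gM_sM : gM * sM * gM⁻¹ = tM
  phi_unique : ∀ α : D1 ≃* D1, (∀ d : D1, (d : GT) ∈ NE → α d = d) → ∀ d : D1, α d = d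
  order_nM : orderOf nM = 11
  nM_comm : nM * eM = eM * nM

/-- The data carried over to an arbitrary group. -/
structure Amalgam (G : Type*) [Group G] where
  θ : Cc →* G
  ψ : NE →* G
  θ_injective : Function.Injective θ
  agree : ∀ (x : GT) (h : x ∈ Cc) (h' : x ∈ NE), θ ⟨x, h⟩ = ψ ⟨x, h'⟩
  conj : ∀ (x : GT) (hx : x ∈ Cc), x ∈ D1 → ∀ (hg : gM ∈ NE) (hy : gM * x * gM⁻¹ ∈ Cc),
    θ ⟨gM * x * gM⁻¹, hy⟩ = ψ ⟨gM, hg⟩ * θ ⟨x, hx⟩ * (ψ ⟨gM, hg⟩)⁻¹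

/-- The universal property of the third Conway group for such data. -/
def BoundStatement.{u} : Prop :=
  ∀ {G : Type u} [Group G] [Finite G] (A : Amalgam G), ∃ Φ : GT →* G,
    (∀ c : Cc, Φ c = A.θ c) ∧ (∀ n : NE, Φ n = A.ψ n)

end CfsgLib.CoThreeUnique
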