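import Cfsg.Agent.Lib.Class49.Primitive

/-!
# A self-centralising four-space with full automizer
-/

set_option autoImplicit false
set_option linter.style.haveILetI false

namespace CfsgLib.CoThreeUnique

open Subgroup

/-- The automorphism group of an elementary abelian group of order sixteen. -/
theorem card_mulAut_sixteen {W : Type*} [Group W] [Finite W] (hW : Nat.card W = 16)
    (h2 : ∀ w : W, w * w = 1) : Nat.card (MulAut W) = 20160 := by
  haveI : Fact (Nat.Prime 2) := ⟨Nat.prime_two⟩
  letI : CommGroup W :=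
    { ‹Group W› with
      mul_comm := fun a b => by
        have h := h2 (a * b)
        calc a * b = a * (a * b * (a * b)) * b := by rw [h, mul_one]
          _ = a * a * (b * a) * (b * b) := by group
          _ = b * a := by rw [h2, h2, one_mul, mul_one] }
  rw [Class49.card_mulAut_prime (n := 4) (l := 2) (by rw [hW]; norm_num)
    (fun w => by rw [pow_two]; exact h2 w), Fin.prod_univ_four]
  rfl

variable {H : Type*} [Group H] [Finite H]

/-- If the stabiliser of an involution `t` of `E` in the normaliser has order `21504` and is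
transitive on the others, and some element of the normaliser moves `t`, then the automizer is
the whole automorphism group. -/
theorem normalizer_full {t s : H} {E : Subgroup H} (ht1 : t ≠ 1) (htE : t ∈ E)
    (hE : Nat.card E = 16) (hE2 : ∀ e ∈ E, e * e = 1)
    (hcE : Subgroup.centralizer (E : Set H) = E)
    (hNC : Nat.card (Subgroup.centralizer {t} ⊓ Subgroup.normalizer (E : Set H) : Subgroup H) = 21504)
    (htr : ∀ e ∈ E, e ≠ 1 → e ≠ t →
      ∃ c ∈ Subgroup.centralizer {t} ⊓ Subgroup.normalizer (E : Set H), c * s * c⁻¹ = e)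
    (hmove : ∃ n ∈ Subgroup.normalizer (E : Set H), n * s * n⁻¹ = t) :
    ((Subgroup.centralizer {t} ⊓ Subgroup.normalizer (E : Set H) : Subgroup H).subgroupOf
        (Subgroup.normalizer (E : Set H))).index = 15 ∧
      ∀ α : ↥E ≃* ↥E, ∃ n ∈ Subgroup.normalizer (E : Set H), ∀ e : ↥E, (α e : H) = n * e * n⁻¹ := by
  let N := Subgroup.normalizer (E : Set H)
  let P := (Subgroup.centralizer {t} ⊓ N : Subgroup H).subgroupOf N
  have hconj : ∀ n : ↥N, ∀ x : H, x ∈ E ↔ (n : H) * x * (n : H)⁻¹ ∈ E := fun n x =>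
    Subgroup.mem_normalizer_iff.1 n.2 x
  have hP : ∀ n : ↥N, n ∈ P ↔ (n : H) * t * (n : H)⁻¹ = t := fun n => by
    rw [Subgroup.mem_subgroupOf, Subgroup.mem_inf, mul_inv_eq_iff_eq_mul,
      Subgroup.mem_centralizer_singleton_iff]
    exact ⟨fun h => h.1, fun h => ⟨h, n.2⟩⟩
  have key : ∀ a b : ↥N, (a⁻¹ * b) ∈ P ↔ (a : H) * t * (a : H)⁻¹ = (b : H) * t * (b : H)⁻¹ := by
    intro a b
    rw [hP, Subgroup.coe_mul, Subgroup.coe_inv]
    constructor <;> intro h
    · calc (a : H) * t * (a : H)⁻¹
          = a * ((a : H)⁻¹ * b * t * ((a : H)⁻¹ * b)⁻¹) * (a : H)⁻¹ := by rw [h]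
        _ = (b : H) * t * (b : H)⁻¹ := by group
    · calc (a : H)⁻¹ * b * t * ((a : H)⁻¹ * b)⁻¹
          = (a : H)⁻¹ * ((b : H) * t * (b : H)⁻¹) * a := by group
        _ = t := by rw [← h]; group
  let f : ↥N ⧸ P → {e : ↥E // e ≠ 1} :=
    Quotient.lift (fun n => ⟨⟨(n : H) * t * (n : H)⁻¹, (hconj n t).1 htE⟩, fun h => ht1 (by
        have h' : (n : H) * t * (n : H)⁻¹ = 1 := congrArg Subtype.val h
        exact conj_eq_one_iff.1 h')⟩)
      fun a b h => Subtype.ext (Subtype.ext ((key a b).1 (QuotientGroup.leftRel_apply.1 h)))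
  have hf : Function.Bijective f := by
    refine ⟨fun x y h => ?_, fun e => ?_⟩
    · induction x using QuotientGroup.induction_on with
      | H a =>
      induction y using QuotientGroup.induction_on with
      | H b =>
      exact QuotientGroup.eq.2 ((key a b).2 (congrArg Subtype.val (congrArg Subtype.val h)))
    · obtain ⟨m, hm, hms⟩ := hmove
      by_cases het : (e.1 : H) = t
      · exact ⟨QuotientGroup.mk 1, Subtype.ext (Subtype.ext (by simpa [f] using het.symm))⟩
      · obtain ⟨c, hc, hce⟩ := htr _ e.1.2 (fun h => e.2 (Subtype.ext h)) het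
        refine ⟨QuotientGroup.mk (⟨c * m⁻¹, mul_mem hc.2 (inv_mem hm)⟩ : ↥N),
          Subtype.ext (Subtype.ext ?_)⟩
        show c * m⁻¹ * t * (c * m⁻¹)⁻¹ = (e.1 : H)
        rw [← hms, ← hce]; group
  have hidx : P.index = 15 := by
    haveI := Fintype.ofFinite ↥E
    classical
    rw [Subgroup.index, Nat.card_eq_of_bijective f hf, Nat.card_eq_fintype_card,
      Fintype.card_subtype_compl, Fintype.card_subtype_eq, ← Nat.card_eq_fintype_card, hE]
  refine ⟨hidx, fun α => ?_⟩
  have hN : Nat.card ↥N = 15 * 21504 := by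
    rw [← P.index_mul_card, hidx, Nat.card_congr (Subgroup.subgroupOfEquivOfLe inf_le_right).toEquiv,
      hNC]
  let φ := E.normalizerMonoidHom
  have hker : φ.ker = E.subgroupOf N := by
    rw [Subgroup.normalizerMonoidHom_ker, hcE]
  have hrange : φ.range = ⊤ := by
    refine Subgroup.eq_top_of_card_eq _ ?_
    rw [card_mulAut_sixteen hE fun w => Subtype.ext (hE2 _ w.2)]
    have h1 := φ.ker.card_mul_index
    rw [Subgroup.index_ker, hker, Nat.card_congr
      (Subgroup.subgroupOfEquivOfLe Subgroup.le_normalizer).toEquiv, hE, hN] at h1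
    omega
  obtain ⟨n, hn⟩ := (MonoidHom.range_eq_top.1 hrange) α
  exact ⟨n, n.2, fun e => by rw [← hn]; rfl⟩

end CfsgLib.CoThreeUnique
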