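import Cfsg.Agent.S0051

/-!
# Extending an isomorphism of subgroups of odd index over a self-centralising elementary abelian
# normal subgroup

Gaschütz' theorem applied to the fibre product over the common automorphism group.
-/

set_option autoImplicit false
set_option linter.style.haveILetI false

namespace CfsgLib.CoThreeUnique

open Subgroup

variable {N M : Type*} [Group N] [Group M] [Finite N] [Finite M]

/-- The extension. -/
theorem exists_equiv_of_odd_index {E P : Subgroup N} [E.Normal] {F Q : Subgroup M} [F.Normal]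
    (hEP : E ≤ P) (hFQ : F ≤ Q) (hE2 : ∀ e ∈ E, e * e = 1)
    (hcE : Subgroup.centralizer (E : Set N) = E) (hcF : Subgroup.centralizer (F : Set M) = F)
    (hfullN : ∀ α : ↥E ≃* ↥E, ∃ n : N, ∀ e : ↥E, (α e : N) = n * e * n⁻¹)
    (hfullM : ∀ α : ↥F ≃* ↥F, ∃ m : M, ∀ f : ↥F, (α f : M) = m * f * m⁻¹)
    (hodd : Odd P.index) (θ : ↥P ≃* ↥Q) (hθ : ∀ p : ↥P, (p : N) ∈ E ↔ (θ p : M) ∈ F)
    (hH1 : ∀ α : ↥Q ≃* ↥Q, (∀ q : ↥Q, (q : M) ∈ F → α q = q) →
      (∀ q : ↥Q, (q : M)⁻¹ * α q ∈ F) → ∃ f ∈ F, ∀ q : ↥Q, (α q : M) = f * q * f⁻¹) :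
    ∃ ψ : N ≃* M, ∀ p : ↥P, ψ p = θ p := by
  have hn : ∀ (n : N) (e : ↥E), n * e * n⁻¹ ∈ E := fun n e => Normal.conj_mem inferInstance _ e.2 n
  have hm : ∀ (m : M) (f : ↥F), m * f * m⁻¹ ∈ F := fun m f => Normal.conj_mem inferInstance _ f.2 m
  -- the restriction of `θ`
  let c : ↥E ≃* ↥F :=
    { toFun := fun e => ⟨θ ⟨e, hEP e.2⟩, (hθ _).1 e.2⟩
      invFun := fun f => ⟨θ.symm ⟨f, hFQ f.2⟩, (hθ _).2 (by rw [θ.apply_symm_apply]; exact f.2)⟩
      left_inv := fun e => Subtype.ext (by simp)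
      right_inv := fun f => Subtype.ext (by simp)
      map_mul' := fun a b => Subtype.ext (by
        exact congrArg (fun q : ↥Q => (q : M)) (map_mul θ ⟨(a : N), hEP a.2⟩ ⟨(b : N), hEP b.2⟩)) }
  have hc : ∀ e : ↥E, (c e : M) = θ ⟨e, hEP e.2⟩ := fun _ => rfl
  -- the fibre product
  let L : Subgroup (N × M) :=
    { carrier := {x | ∀ e : ↥E, (c ⟨x.1 * e * x.1⁻¹, hn _ _⟩ : M) = x.2 * c e * x.2⁻¹}
      one_mem' := fun e => by simp
      mul_mem' := fun {x y} hx hy e => by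
        show (c ⟨x.1 * y.1 * e * (x.1 * y.1)⁻¹, hn _ _⟩ : M) = x.2 * y.2 * c e * (x.2 * y.2)⁻¹
        have h := hx ⟨y.1 * e * y.1⁻¹, hn _ _⟩
        rw [hy e] at h
        simpa [mul_assoc] using h
      inv_mem' := fun {x} hx e => by
        have h := hx ⟨x.1⁻¹ * e * x.1⁻¹⁻¹, hn _ _⟩
        simp only [inv_inv, mul_assoc, mul_inv_cancel_left, mul_inv_cancel, mul_one] at h
        show (c ⟨x.1⁻¹ * e * x.1⁻¹⁻¹, hn _ _⟩ : M) = x.2⁻¹ * c e * x.2⁻¹⁻¹
        simp only [inv_inv, mul_assoc]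
        rw [show (⟨(e : N), e.2⟩ : ↥E) = e from rfl] at h
        rw [h]
        group }
  have hmemL : ∀ x : N × M, x ∈ L ↔
      ∀ e : ↥E, (c ⟨x.1 * e * x.1⁻¹, hn _ _⟩ : M) = x.2 * c e * x.2⁻¹ := fun _ => Iff.rfl
  have hfst : ∀ n : N, ∃ m : M, (n, m) ∈ L := fun n => by
    let α : ↥E ≃* ↥E :=
      { toFun := fun e => ⟨n * e * n⁻¹, hn _ _⟩
        invFun := fun e => ⟨n⁻¹ * e * n⁻¹⁻¹, hn _ _⟩
        left_inv := fun e => Subtype.ext (by simp [mul_assoc])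
        right_inv := fun e => Subtype.ext (by simp [mul_assoc])
        map_mul' := fun a b => Subtype.ext (by simp [mul_assoc]) }
    obtain ⟨m, hm'⟩ := hfullM ((c.symm.trans α).trans c)
    refine ⟨m, fun e => ?_⟩
    have h := hm' (c e)
    simp only [MulEquiv.trans_apply, MulEquiv.symm_apply_apply] at h
    exact h
  have hsnd : ∀ m : M, ∃ n : N, (n, m) ∈ L := fun m => by
    let α : ↥F ≃* ↥F :=
      { toFun := fun f => ⟨m * f * m⁻¹, hm _ _⟩
        invFun := fun f => ⟨m⁻¹ * f * m⁻¹⁻¹, hm _ _⟩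
        left_inv := fun e => Subtype.ext (by simp [mul_assoc])
        right_inv := fun e => Subtype.ext (by simp [mul_assoc])
        map_mul' := fun a b => Subtype.ext (by simp [mul_assoc]) }
    obtain ⟨n, hn'⟩ := hfullN ((c.trans α).trans c.symm)
    refine ⟨n, fun e => ?_⟩
    rw [show (⟨n * e * n⁻¹, hn n e⟩ : ↥E) = ((c.trans α).trans c.symm) e from
      Subtype.ext (hn' e).symm]
    simp [α]
  have hone : ∀ m : M, (1, m) ∈ L → m ∈ F := fun m h => by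
    rw [← hcF]
    refine Subgroup.mem_centralizer_iff.2 fun f hf => ?_
    have h' := (hmemL _).1 h (c.symm ⟨f, hf⟩)
    simp only [one_mul, inv_one, mul_one, Subtype.coe_eta, MulEquiv.apply_symm_apply] at h'
    calc f * m = m * f * m⁻¹ * m := by rw [← h']
      _ = m * f := inv_mul_cancel_right _ _
  have hone' : ∀ n : N, (n, 1) ∈ L → n ∈ E := fun n h => by
    rw [← hcE]
    refine Subgroup.mem_centralizer_iff.2 fun x hx => ?_
    have h' := (hmemL _).1 h ⟨x, hx⟩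
    simp only [one_mul, inv_one, mul_one, Subtype.coe_inj, c.injective.eq_iff, Subtype.ext_iff] at h'
    calc x * n = n * x * n⁻¹ * n := by rw [h']
      _ = n * x := inv_mul_cancel_right _ _
  -- the graph of `θ`
  let gr : ↥P →* N × M := MonoidHom.prod P.subtype (Q.subtype.comp θ.toMonoidHom)
  have hgr : ∀ p : ↥P, gr p ∈ L := fun p e => by
    show (c ⟨(p : N) * e * (p : N)⁻¹, hn _ _⟩ : M) = (θ p : M) * c e * (θ p : M)⁻¹
    have h := congrArg Subtype.val ((map_mul θ (p * ⟨e, hEP e.2⟩) p⁻¹).trans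
      (congrArg₂ (· * ·) (map_mul θ p ⟨e, hEP e.2⟩) (map_inv θ p)))
    exact h
  let grL : ↥P →* ↥L := gr.codRestrict L hgr
  let K : Subgroup ↥L := ((⊥ : Subgroup N).prod F).subgroupOf L
  let Δ : Subgroup ↥L := (E.subgroupOf P).map grL
  have hΔ : ∀ x : ↥L, x ∈ Δ ↔ ∃ e : ↥E, (x : N × M) = ((e : N), (c e : M)) := fun x => by
    constructor
    · rintro ⟨p, hp, rfl⟩
      exact ⟨⟨p, hp⟩, rfl⟩
    · rintro ⟨e, he⟩
      exact ⟨⟨e, hEP e.2⟩, e.2, Subtype.ext he.symm⟩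
  haveI : Δ.Normal := ⟨fun x hx g => by
    obtain ⟨e, he⟩ := (hΔ x).1 hx
    refine (hΔ _).2 ⟨⟨g.1.1 * e * g.1.1⁻¹, hn _ _⟩, ?_⟩
    rw [Subgroup.coe_mul, Subgroup.coe_mul, Subgroup.coe_inv, he, g.2 e]
    rfl⟩
  haveI : ((⊥ : Subgroup N).prod F).Normal := inferInstance
  haveI : K.Normal := inferInstance
  have hF2 : ∀ f ∈ F, f * f = 1 := fun f hf => by
    obtain ⟨e, he⟩ := c.surjective ⟨f, hf⟩
    have h := congrArg c (show e * e = 1 from Subtype.ext (hE2 e e.2))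
    rw [map_mul, he, map_one] at h
    exact congrArg Subtype.val h
  have hK : ∀ x : ↥L, x ∈ K ↔ x.1.1 = 1 := fun x => by
    refine ⟨fun h => h.1, fun h => ⟨h, hone _ ?_⟩⟩
    convert x.2 using 1
    exact Prod.ext h.symm rfl
  let π := QuotientGroup.mk' Δ
  let fL : ↥L →* N := (MonoidHom.fst N M).comp L.subtype
  have hfL : Function.Surjective fL := fun n => by
    obtain ⟨m, h⟩ := hfst n
    exact ⟨⟨(n, m), h⟩, rfl⟩
  let U : Subgroup ↥L := P.comap fL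
  have hKU : K ≤ U := fun x hx => by
    show x.1.1 ∈ P
    rw [(hK x).1 hx]; exact one_mem _
  have hΔU : Δ ≤ U := fun x hx => by
    obtain ⟨e, he⟩ := (hΔ x).1 hx
    show x.1.1 ∈ P
    rw [he]; exact hEP e.2
  haveI : (K.map π).Normal := ‹K.Normal›.map π (QuotientGroup.mk'_surjective Δ)
  haveI : IsMulCommutative ↥(K.map π) := ⟨⟨by
    rintro ⟨_, x, hx, rfl⟩ ⟨_, y, hy, rfl⟩
    refine Subtype.ext ?_
    show π x * π y = π y * π x
    rw [← map_mul, ← map_mul]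
    congr 1
    refine Subtype.ext (Prod.ext ?_ ?_)
    · show x.1.1 * y.1.1 = y.1.1 * x.1.1
      rw [(hK x).1 hx, (hK y).1 hy]
    · show x.1.2 * y.1.2 = y.1.2 * x.1.2
      have hyF : y.1.2 ∈ Subgroup.centralizer (F : Set M) := hcF.symm ▸ hy.2
      exact Subgroup.mem_centralizer_iff.1 hyF _ hx.2⟩⟩
  have hUπ : (U.map π).index = P.index := by
    rw [Subgroup.index_map_eq _ (QuotientGroup.mk'_surjective Δ)
      (by rw [QuotientGroup.ker_mk']; exact hΔU), Subgroup.index_comap_of_surjective _ hfL]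
  have hp2 : IsPGroup 2 ↥(K.map π) := by
    rintro ⟨_, x, hx, rfl⟩
    refine ⟨1, Subtype.ext ?_⟩
    show π x ^ 2 ^ 1 = 1
    rw [← map_pow, show x ^ 2 ^ 1 = (1 : ↥L) from Subtype.ext ?_, map_one]
    refine Prod.ext ?_ ?_
    · show x.1.1 ^ 2 ^ 1 = 1
      rw [(hK x).1 hx, one_pow]
    · show x.1.2 ^ 2 ^ 1 = 1
      rw [pow_one, pow_two]
      exact hF2 _ hx.2
  have hcop : (Nat.card ↥(K.map π)).Coprime (U.map π).index := by
    haveI : Fact (Nat.Prime 2) := ⟨Nat.prime_two⟩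
    obtain ⟨k, hk⟩ := IsPGroup.iff_card.1 hp2
    rw [hk, hUπ]
    exact (Nat.coprime_two_left.2 hodd).pow_left k
  have hgrU : grL.range ≤ U := by rintro _ ⟨p, rfl⟩; exact p.2
  have hAK : grL.range.map π ⊓ K.map π = ⊥ := by
    rw [eq_bot_iff]
    rintro _ ⟨⟨_, ⟨p, rfl⟩, rfl⟩, ⟨y, hy, hye⟩⟩
    rw [Subgroup.mem_bot]
    obtain ⟨e, he⟩ := (hΔ _).1 (QuotientGroup.eq.1 hye)
    have h1 : (p : N) = e := by
      have h := congrArg Prod.fst he
      simpa [(hK y).1 hy, grL, gr] using h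
    rw [← MonoidHom.mem_ker, QuotientGroup.ker_mk']
    exact (hΔ _).2 ⟨e, Prod.ext h1 (by
      show (θ p : M) = c e
      rw [hc]
      congr 2
      exact Subtype.ext h1)⟩
  have hKA : K.map π ⊔ grL.range.map π = U.map π := by
    rw [← Subgroup.map_sup]
    refine congrArg _ (le_antisymm (sup_le hKU hgrU) fun x hx => ?_)
    obtain ⟨p, hp⟩ : ∃ p : ↥P, (p : N) = x.1.1 := ⟨⟨x.1.1, hx⟩, rfl⟩
    have hy : x * (grL p)⁻¹ ∈ K := (hK _).2 (by
      show x.1.1 * (p : N)⁻¹ = 1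
      rw [hp, mul_inv_cancel])
    rw [← inv_mul_cancel_right x (grL p)]
    exact mul_mem (le_sup_left (b := grL.range) hy) (le_sup_right (a := K) ⟨p, rfl⟩)
  obtain ⟨H, hH⟩ := Cfsg.Agent.S0051.result (K.map π) (U.map π) (Subgroup.map_mono hKU) hcop
    (grL.range.map π) (Subgroup.map_mono hgrU) hAK hKA
  let D : Subgroup ↥L := H.comap π
  have hΔD : Δ ≤ D := fun x hx => by
    show π x ∈ H
    rw [show π x = 1 from (QuotientGroup.eq_one_iff x).2 hx]; exact one_mem _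
  have hDK : ∀ x ∈ D, x ∈ K → x = 1 := fun x hx hxK => by
    have h1 : π x = 1 := Subgroup.disjoint_def.1 hH.disjoint ⟨x, hxK, rfl⟩ hx
    obtain ⟨e, he⟩ := (hΔ x).1 ((QuotientGroup.eq_one_iff x).1 h1)
    have he1 : e = 1 := Subtype.ext (by
      have := congrArg Prod.fst he
      rw [(hK x).1 hxK] at this
      exact this.symm)
    subst he1
    exact Subtype.ext (he.trans (by simp))
  have hDsup : ∀ x : ↥L, ∃ y ∈ K, y * x ∈ D := fun x => by
    obtain ⟨⟨⟨_, y, hy, rfl⟩, h⟩, e⟩ := hH.2 (π x)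
    refine ⟨y⁻¹, inv_mem hy, ?_⟩
    show π (y⁻¹ * x) ∈ H
    rw [map_mul, map_inv, ← show π y * (h : ↥L ⧸ Δ) = π x from e, inv_mul_cancel_left]
    exact h.2
  have bf : Function.Bijective (fL.comp D.subtype) := by
    refine ⟨(injective_iff_map_eq_one _).2 fun x hx => ?_, fun n => ?_⟩
    · exact Subtype.ext (hDK _ x.2 ((hK _).2 hx))
    · obtain ⟨x, rfl⟩ := hfL n
      obtain ⟨y, hy, hyx⟩ := hDsup x
      refine ⟨⟨y * x, hyx⟩, ?_⟩
      show y.1.1 * x.1.1 = x.1.1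
      rw [(hK y).1 hy, one_mul]
  have bs : Function.Bijective (((MonoidHom.snd N M).comp L.subtype).comp D.subtype) := by
    refine ⟨(injective_iff_map_eq_one _).2 fun x hx => ?_, fun m => ?_⟩
    · have hxE : x.1.1.1 ∈ E := hone' _ (by
        rw [show (x.1.1.1, (1 : M)) = x.1.1 from Prod.ext rfl hx.symm]; exact x.1.2)
      let d : ↥L := grL ⟨_, hEP hxE⟩
      have hd : d ∈ Δ := ⟨_, hxE, rfl⟩
      have h1 := hDK (d⁻¹ * x.1) (mul_mem (inv_mem (hΔD hd)) x.2) ((hK _).2 (inv_mul_cancel _))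
      have h2 : d = x.1 := inv_mul_eq_one.1 h1
      have h3 : (θ ⟨x.1.1.1, hEP hxE⟩ : M) = 1 := by
        have h := congrArg (fun z : ↥L => z.1.2) h2
        exact h.trans hx
      have h4 : (⟨x.1.1.1, hEP hxE⟩ : ↥P) = 1 := θ.injective (by
        rw [map_one]; exact Subtype.ext h3)
      exact Subtype.ext (Subtype.ext (Prod.ext (congrArg Subtype.val h4) hx))
    · obtain ⟨n, hnm⟩ := hsnd m
      obtain ⟨y, hy, hyx⟩ := hDsup ⟨(n, m), hnm⟩
      obtain ⟨e, he⟩ := c.surjective ⟨y.1.2⁻¹, inv_mem hy.2⟩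
      let d : ↥L := grL ⟨e, hEP e.2⟩
      refine ⟨⟨d * (y * ⟨(n, m), hnm⟩), mul_mem (hΔD ⟨_, e.2, rfl⟩) hyx⟩, ?_⟩
      show (θ ⟨e, hEP e.2⟩ : M) * (y.1.2 * m) = m
      rw [← hc, he, inv_mul_cancel_left]
  let ψ₀ : N ≃* M := (MulEquiv.ofBijective _ bf).symm.trans (MulEquiv.ofBijective _ bs)
  have hψL : ∀ n : N, (n, ψ₀ n) ∈ L := fun n => by
    obtain ⟨x, rfl⟩ := bf.2 n
    have e : ψ₀ ((fL.comp D.subtype) x) = x.1.1.2 := by
      show MulEquiv.ofBijective _ bs ((MulEquiv.ofBijective _ bf).symm (MulEquiv.ofBijective _ bf x))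
        = _
      rw [MulEquiv.symm_apply_apply]; rfl
    rw [e]
    exact x.1.2
  have hψE : ∀ e : ↥E, ψ₀ e = c e := fun e => by
    have hd : grL ⟨e, hEP e.2⟩ ∈ D := hΔD ⟨_, e.2, rfl⟩
    show MulEquiv.ofBijective _ bs ((MulEquiv.ofBijective _ bf).symm
      (MulEquiv.ofBijective _ bf ⟨_, hd⟩)) = _
    rw [MulEquiv.symm_apply_apply]; rfl
  have hψF : ∀ p : ↥P, (θ p : M)⁻¹ * ψ₀ p ∈ F := fun p => hone _ (by
    have h := mul_mem (inv_mem (hgr p)) (hψL p)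
    convert h using 1
    exact Prod.ext (inv_mul_cancel _).symm rfl)
  have hQ : ∀ q : ↥Q, ψ₀ (θ.symm q) ∈ Q := fun q => by
    have h := hψF (θ.symm q)
    rw [θ.apply_symm_apply] at h
    exact (mul_mem_cancel_left (inv_mem q.2)).1 (hFQ h)
  let α₀ : ↥Q →* ↥Q :=
    ((ψ₀.toMonoidHom.comp P.subtype).comp θ.symm.toMonoidHom).codRestrict Q hQ
  have hinj : Function.Injective α₀ := fun x y h =>
    θ.symm.injective (Subtype.ext (ψ₀.injective (congrArg Subtype.val h)))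
  let α : ↥Q ≃* ↥Q := MulEquiv.ofBijective α₀ (Finite.injective_iff_bijective.1 hinj)
  obtain ⟨f, -, hf⟩ := hH1 α
    (fun q hq => by
      refine Subtype.ext ?_
      show ψ₀ (θ.symm q : N) = q
      have he : (θ.symm q : N) ∈ E := (hθ _).2 (by rw [θ.apply_symm_apply]; exact hq)
      rw [show (θ.symm q : N) = ((⟨_, he⟩ : ↥E) : N) from rfl, hψE, hc,
        show (⟨(θ.symm q : N), hEP he⟩ : ↥P) = θ.symm q from rfl, θ.apply_symm_apply])
    (fun q => by
      show (q : M)⁻¹ * ψ₀ (θ.symm q : N) ∈ F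
      have h := hψF (θ.symm q)
      rwa [θ.apply_symm_apply] at h)
  refine ⟨ψ₀.trans (MulAut.conj f⁻¹), fun p => ?_⟩
  have h : ψ₀ (p : N) = f * (θ p : M) * f⁻¹ := by
    rw [← hf (θ p)]
    show ψ₀ (p : N) = ψ₀ ((θ.symm (θ p) : ↥P) : N)
    rw [θ.symm_apply_apply]
  rw [MulEquiv.trans_apply, MulAut.conj_apply, h, inv_inv]
  group

end CfsgLib.CoThreeUnique
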