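import Cfsg.Agent.Lib.CoThreeUnique.Spec
import Cfsg.Agent.Lib.CoThreeUnique.Cover
import Cfsg.Agent.Lib.CoThreeUnique.GaschutzIso
import Cfsg.Agent.Lib.CoThreeUnique.FullNormalizer
import Cfsg.Agent.Lib.Involutions.BrauerSuzuki

/-!
# The fusion of the central involution and the amalgam in an arbitrary group

An involution with centraliser a non-split double cover of `Sp₆(2)` in a group without odd core
and centre is fused to the class of `sM` only, and the normaliser of the distinguished four-space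
is that of the model.
-/

set_option autoImplicit false
set_option linter.style.haveILetI false

namespace CfsgLib.CoThreeUnique

open Subgroup
open CfsgLib.Sporadic.Conway.ThreeOut (GT)

universe u

variable {G : Type u} [Group G] [Finite G] {t : G}

/-- The centraliser of an involution contains another conjugate of it. -/
theorem exists_fused (hO : Cfsg.oddCore G = ⊥) (hZ : Subgroup.center G = ⊥) (ht : orderOf t = 2) :
    ∃ g : G, g * t * g⁻¹ ∈ Subgroup.centralizer {t} ∧ g * t * g⁻¹ ≠ t := by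
  by_contra h
  push Not at h
  have hiso : Cfsg.IsIsolatedInvolution t :=
    ⟨ht, fun g hg => h g (Subgroup.mem_centralizer_singleton_iff.2 hg.symm.eq)⟩
  have hz := CfsgLib.Involutions.zstar G t hiso
  have hc : t ∈ Subgroup.center G := Subgroup.mem_center_iff.2 fun g => by
    have h1 := hz g
    rw [show Cfsg.pPrimeCore 2 G = ⊥ from hO, Subgroup.mem_bot, mul_inv_eq_one,
      mul_inv_eq_iff_eq_mul] at h1
    exact h1
  rw [hZ, Subgroup.mem_bot] at hc
  rw [hc, orderOf_one] at ht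
  exact absurd ht (by norm_num)

variable {θ : Cc →* G} (hθ : Function.Injective θ) (hrange : Set.range θ = centralizer {t})

include hθ hrange

omit [Finite G] in
/-- The image of a centraliser. -/
theorem card_centralizer_pair (x : ↥Cc) :
    Nat.card (Subgroup.centralizer ({t, θ x} : Set G)) =
      Nat.card (Subgroup.centralizer ({tM, (x : GT)} : Set GT)) := by
  have key : ∀ c : ↥Cc, θ c ∈ Subgroup.centralizer ({t, θ x} : Set G) ↔
      (c : GT) ∈ Subgroup.centralizer ({tM, (x : GT)} : Set GT) := fun c => by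
    simp only [Subgroup.mem_centralizer_iff, Set.mem_insert_iff, Set.mem_singleton_iff, forall_eq_or_imp,
      forall_eq]
    have h1 : θ c ∈ (Subgroup.centralizer {t} : Set G) := hrange ▸ Set.mem_range_self c
    rw [SetLike.mem_coe, Subgroup.mem_centralizer_singleton_iff] at h1
    have h2 := Subgroup.mem_centralizer_singleton_iff.1 c.2
    constructor
    · rintro ⟨-, h⟩
      exact ⟨h2.symm, congrArg Subtype.val (hθ (by simpa only [map_mul] using h) :
        x * c = c * x)⟩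
    · rintro ⟨-, h⟩
      exact ⟨h1.symm, by rw [← map_mul, ← map_mul, show x * c = c * x from Subtype.ext h]⟩
  refine (Nat.card_eq_of_bijective
    (fun c : ↥(Subgroup.centralizer ({tM, (x : GT)} : Set GT)) =>
      (⟨θ ⟨c, Subgroup.mem_centralizer_singleton_iff.2
          ((Subgroup.mem_centralizer_iff.1 c.2 tM (Set.mem_insert _ _)).symm)⟩,
        (key _).2 c.2⟩ : ↥(Subgroup.centralizer ({t, θ x} : Set G))))
    ⟨fun a b e => Subtype.ext (congrArg (fun c : ↥Cc => (c : GT)) (hθ (congrArg Subtype.val e))),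
      fun g => ?_⟩).symm
  have hg : (g : G) ∈ Set.range θ := by
    rw [hrange]
    exact Subgroup.mem_centralizer_singleton_iff.2
      ((Subgroup.mem_centralizer_iff.1 g.2 t (Set.mem_insert _ _)).symm)
  obtain ⟨c, hc⟩ := hg
  exact ⟨⟨c, (key c).1 (hc.symm ▸ g.2)⟩, Subtype.ext hc⟩

/-- The class of `eM` is not fused to `t`. -/
theorem eM_not_fused (hF : ModelFacts) (hθt : ∀ h : tM ∈ Cc, θ ⟨tM, h⟩ = t) (g : G) :
    g * θ ⟨eM, hF.eM_mem⟩ * g⁻¹ ≠ t := by
  intro hg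
  have htM : tM ∈ Cc := Subgroup.mem_centralizer_singleton_iff.2 rfl
  obtain ⟨u, hu⟩ : ∃ u, u = θ ⟨eM, hF.eM_mem⟩ := ⟨_, rfl⟩
  rw [← hu] at hg
  have hut : u * t = t * u := by
    rw [hu]
    exact Subgroup.mem_centralizer_singleton_iff.1
      (hrange ▸ Set.mem_range_self _ : θ _ ∈ (Subgroup.centralizer {t} : Set G))
  -- the partner
  obtain ⟨t', ht'⟩ : ∃ t', t' = g * t * g⁻¹ := ⟨_, rfl⟩
  have ht'C : t' ∈ Set.range θ := by
    rw [hrange, SetLike.mem_coe, Subgroup.mem_centralizer_singleton_iff, ht']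
    have e : g * t * g⁻¹ * (g * u * g⁻¹) = g * u * g⁻¹ * (g * t * g⁻¹) := by
      calc g * t * g⁻¹ * (g * u * g⁻¹) = g * (t * u) * g⁻¹ := by group
        _ = g * (u * t) * g⁻¹ := by rw [hut]
        _ = _ := by group
    rwa [hg] at e
  obtain ⟨x, hx⟩ := ht'C
  have hne : t' ≠ t := fun e => by
    rw [ht'] at e
    have hu2 : u = t := mul_left_cancel (mul_right_cancel (hg.trans e.symm))
    exact hF.eM_ne (congrArg Subtype.val (hθ (hu.symm.trans (hu2.trans (hθt htM).symm))))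
  have hx2 : (x : GT) * x = 1 := by
    have h : θ (x * x) = θ 1 := by
      rw [map_mul, map_one, hx, ht']
      have h2 : t * t = 1 := by
        rw [← hθt htM, ← map_mul, show (⟨tM, htM⟩ : ↥Cc) * ⟨tM, htM⟩ = 1 from Subtype.ext ?_,
          map_one]
        have := pow_orderOf_eq_one tM
        rwa [hF.order_tM, pow_two] at this
      calc g * t * g⁻¹ * (g * t * g⁻¹) = g * (t * t) * g⁻¹ := by group
        _ = 1 := by rw [h2, mul_one, mul_inv_cancel]
    exact congrArg Subtype.val (hθ h)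
  rcases hF.inv_classes x x.2 hx2 with h | h | ⟨c, hc, hce⟩ | ⟨c, hc, hce⟩
  · rw [show x = 1 from Subtype.ext h, map_one] at hx
    rw [ht', eq_comm, conj_eq_one_iff] at hx
    have := congrArg orderOf ((hθt htM).trans hx)
    rw [orderOf_injective θ hθ, orderOf_one, Subgroup.orderOf_mk, hF.order_tM] at this
    exact absurd this (by norm_num)
  · exact hne (by rw [← hx, show x = ⟨tM, htM⟩ from Subtype.ext h, hθt])
  · -- the class of `sM`: the orders of the centralisers differ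
    have h1 : Nat.card (Subgroup.centralizer ({t, u} : Set G)) = 384 := by
      rw [hu, card_centralizer_pair hθ hrange]; exact hF.card_K1
    have h2 : Nat.card (Subgroup.centralizer ({t, θ ⟨sM, hF.sM_mem⟩} : Set G)) = 4608 := by
      rw [card_centralizer_pair hθ hrange]; exact hF.card_D1
    have hxe : θ ⟨c, hc⟩ * θ ⟨sM, hF.sM_mem⟩ * (θ ⟨c, hc⟩)⁻¹ = t' := by
      rw [← hx, ← map_inv, ← map_mul, ← map_mul]
      exact congrArg θ (Subtype.ext hce)
    have hct : θ ⟨c, hc⟩ * t = t * θ ⟨c, hc⟩ := Subgroup.mem_centralizer_singleton_iff.1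
      (hrange ▸ Set.mem_range_self _ : θ _ ∈ (Subgroup.centralizer {t} : Set G))
    have hk : ∀ (k a b : G), (Subgroup.centralizer ({a, b} : Set G)).map (MulAut.conj k).toMonoidHom =
        Subgroup.centralizer ({k * a * k⁻¹, k * b * k⁻¹} : Set G) := fun k a b => by
      ext y
      simp only [Subgroup.mem_map, MulEquiv.coe_toMonoidHom, MulAut.conj_apply,
        Subgroup.mem_centralizer_iff, Set.mem_insert_iff, Set.mem_singleton_iff, forall_eq_or_imp,
        forall_eq]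
      constructor
      · rintro ⟨z, ⟨h1, h2⟩, rfl⟩
        constructor
        · calc k * a * k⁻¹ * (k * z * k⁻¹) = k * (a * z) * k⁻¹ := by group
            _ = k * (z * a) * k⁻¹ := by rw [h1]
            _ = _ := by group
        · calc k * b * k⁻¹ * (k * z * k⁻¹) = k * (b * z) * k⁻¹ := by group
            _ = k * (z * b) * k⁻¹ := by rw [h2]
            _ = _ := by group
      · rintro ⟨h1, h2⟩
        refine ⟨k⁻¹ * y * k, ⟨?_, ?_⟩, by group⟩
        · calc a * (k⁻¹ * y * k) = k⁻¹ * (k * a * k⁻¹ * y) * k := by group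
            _ = k⁻¹ * (y * (k * a * k⁻¹)) * k := by rw [h1]
            _ = _ := by group
        · calc b * (k⁻¹ * y * k) = k⁻¹ * (k * b * k⁻¹ * y) * k := by group
            _ = k⁻¹ * (y * (k * b * k⁻¹)) * k := by rw [h2]
            _ = _ := by group
    have e1 := Subgroup.card_map_of_injective
      (K := Subgroup.centralizer ({t, u} : Set G)) (f := (MulAut.conj g).toMonoidHom) (MulAut.conj g).injective
    rw [hk, hg, ← ht', Set.pair_comm, h1] at e1
    have e2 := Subgroup.card_map_of_injective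
      (K := Subgroup.centralizer ({t, θ ⟨sM, hF.sM_mem⟩} : Set G))
      (f := (MulAut.conj (θ ⟨c, hc⟩)).toMonoidHom) (MulAut.conj (θ ⟨c, hc⟩)).injective
    rw [hk, hxe, mul_inv_eq_iff_eq_mul.2 hct, h2, e1] at e2
    omega
  · -- the class of `eM`: the pair can be swapped
    have hxe : θ ⟨c, hc⟩ * u * (θ ⟨c, hc⟩)⁻¹ = t' := by
      rw [hu, ← hx, ← map_inv, ← map_mul, ← map_mul]
      exact congrArg θ (Subtype.ext hce)
    have hct : θ ⟨c, hc⟩ * t = t * θ ⟨c, hc⟩ := Subgroup.mem_centralizer_singleton_iff.1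
      (hrange ▸ Set.mem_range_self _ : θ _ ∈ (Subgroup.centralizer {t} : Set G))
    obtain ⟨k, hk⟩ : ∃ k, k = (θ ⟨c, hc⟩)⁻¹ * g := ⟨_, rfl⟩
    have hkt : k * t * k⁻¹ = u := by
      rw [hk]
      calc (θ ⟨c, hc⟩)⁻¹ * g * t * ((θ ⟨c, hc⟩)⁻¹ * g)⁻¹
          = (θ ⟨c, hc⟩)⁻¹ * (g * t * g⁻¹) * θ ⟨c, hc⟩ := by group
        _ = u := by rw [← ht', ← hxe]; group
    have hku : k * u * k⁻¹ = t := by
      rw [hk]
      calc (θ ⟨c, hc⟩)⁻¹ * g * u * ((θ ⟨c, hc⟩)⁻¹ * g)⁻¹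
          = (θ ⟨c, hc⟩)⁻¹ * (g * u * g⁻¹) * θ ⟨c, hc⟩ := by group
        _ = t := by rw [hg, mul_assoc, ← hct, inv_mul_cancel_left]
    obtain ⟨d, hd, hdd⟩ := hF.square_tM
    have hdC : d ∈ Cc := Subgroup.mem_centralizer_singleton_iff.2
      ((Subgroup.mem_centralizer_iff.1 hd tM (Set.mem_insert _ _)).symm)
    have hde : eM * d = d * eM :=
      Subgroup.mem_centralizer_iff.1 hd eM (Set.mem_insert_of_mem _ rfl)
    have hdt : θ ⟨d, hdC⟩ * θ ⟨d, hdC⟩ = t := by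
      rw [← map_mul, ← hθt htM]; exact congrArg θ (Subtype.ext hdd)
    have hdu : u * θ ⟨d, hdC⟩ = θ ⟨d, hdC⟩ * u := by
      rw [hu, ← map_mul, ← map_mul]; exact congrArg θ (Subtype.ext hde)
    have hdt' : θ ⟨d, hdC⟩ * t = t * θ ⟨d, hdC⟩ := by
      rw [← hdt, mul_assoc]
    obtain ⟨y, hy⟩ : k * θ ⟨d, hdC⟩ * k⁻¹ ∈ Set.range θ := by
      rw [hrange, SetLike.mem_coe, Subgroup.mem_centralizer_singleton_iff]
      have e : k * θ ⟨d, hdC⟩ * k⁻¹ * (k * u * k⁻¹) = k * u * k⁻¹ * (k * θ ⟨d, hdC⟩ * k⁻¹) := by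
        calc k * θ ⟨d, hdC⟩ * k⁻¹ * (k * u * k⁻¹) = k * (θ ⟨d, hdC⟩ * u) * k⁻¹ := by group
          _ = k * (u * θ ⟨d, hdC⟩) * k⁻¹ := by rw [hdu]
          _ = _ := by group
      rwa [hku] at e
    refine hF.not_square_eM y ?_ ?_
    · refine Subgroup.mem_centralizer_iff.2 fun z hz => ?_
      rcases hz with rfl | rfl
      · exact (Subgroup.mem_centralizer_singleton_iff.1 y.2).symm
      · have h : u * θ y = θ y * u := by
          rw [hy]
          have e : k * t * k⁻¹ * (k * θ ⟨d, hdC⟩ * k⁻¹) = k * θ ⟨d, hdC⟩ * k⁻¹ * (k * t * k⁻¹) := by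
            calc k * t * k⁻¹ * (k * θ ⟨d, hdC⟩ * k⁻¹) = k * (t * θ ⟨d, hdC⟩) * k⁻¹ := by group
              _ = k * (θ ⟨d, hdC⟩ * t) * k⁻¹ := by rw [hdt']
              _ = _ := by group
          rwa [hkt] at e
        rw [hu, ← map_mul, ← map_mul] at h
        exact congrArg Subtype.val (hθ h)
    · have h : θ (y * y) = θ ⟨eM, hF.eM_mem⟩ := by
        rw [map_mul, hy, ← hu, ← hkt]
        calc k * θ ⟨d, hdC⟩ * k⁻¹ * (k * θ ⟨d, hdC⟩ * k⁻¹)
            = k * (θ ⟨d, hdC⟩ * θ ⟨d, hdC⟩) * k⁻¹ := by group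
          _ = k * t * k⁻¹ := by rw [hdt]
      exact congrArg Subtype.val (hθ h)

omit hθ hrange

set_option maxHeartbeats 1600000 in
/-- The amalgam of an arbitrary group with such an involution centraliser. -/
theorem exists_amalgam (hF : ModelFacts) (hO : Cfsg.oddCore G = ⊥) (hZ : Subgroup.center G = ⊥)
    (t : G) (ht : orderOf t = 2)
    (hC : Cfsg.IsNonsplitDoubleCover (Subgroup.centralizer ({t} : Set G))
      (Matrix.symplecticGroup (Fin 3) (ZMod 2))) :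
    ∃ A : Amalgam G, Set.range A.θ = Subgroup.centralizer ({t} : Set G) ∧
      (∀ h : tM ∈ Cc, A.θ ⟨tM, h⟩ = t) ∧
      ∀ (h : eM ∈ Cc) (g : G), g * A.θ ⟨eM, h⟩ * g⁻¹ ≠ t := by
  haveI : Finite GT := Sporadic.Conway.ThreeOut.finite_GT
  have htM : tM ∈ Cc := Subgroup.mem_centralizer_singleton_iff.2 rfl
  obtain ⟨e⟩ := nonempty_equiv_of_cover hF.cover hC
  let θ : ↥Cc →* G := (Subgroup.centralizer ({t} : Set G)).subtype.comp e.toMonoidHom
  have hθ : Function.Injective θ := Subtype.val_injective.comp e.injective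
  have hrange : Set.range θ = Subgroup.centralizer ({t} : Set G) := by
    show Set.range (Subtype.val ∘ e) = _
    rw [Set.range_comp, e.surjective.range_eq, Set.image_univ, Subtype.range_coe]
  have hθt : ∀ h : tM ∈ Cc, θ ⟨tM, h⟩ = t := fun h => by
    obtain ⟨z, hz⟩ : t ∈ Set.range θ := by
      rw [hrange]; exact Subgroup.mem_centralizer_singleton_iff.2 rfl
    have hzc : ∀ c ∈ Cc, c * (z : GT) = (z : GT) * c := fun c hc => by
      refine congrArg Subtype.val (hθ (?_ : θ (⟨c, hc⟩ * z) = θ (z * ⟨c, hc⟩)))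
      rw [map_mul, map_mul, hz]
      exact Subgroup.mem_centralizer_singleton_iff.1
        (hrange ▸ Set.mem_range_self _ : θ _ ∈ (Subgroup.centralizer {t} : Set G))
    rcases hF.center_Cc z z.2 hzc with h1 | h1
    · rw [show z = 1 from Subtype.ext h1, map_one] at hz
      rw [← hz, orderOf_one] at ht
      exact absurd ht (by norm_num)
    · rw [← hz]; exact congrArg θ (Subtype.ext h1.symm)
  have hne := eM_not_fused hθ hrange hF hθt
  have ht1 : t ≠ 1 := fun e => by rw [e, orderOf_one] at ht; exact absurd ht (by norm_num)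
  have inC : ∀ c : ↥Cc, θ c * t = t * θ c := fun c => Subgroup.mem_centralizer_singleton_iff.1
    (hrange ▸ Set.mem_range_self _ : θ _ ∈ (Subgroup.centralizer {t} : Set G))
  have hconj : ∀ (c x : GT) (hc : c ∈ Cc) (hx : x ∈ Cc),
      θ ⟨c, hc⟩ * θ ⟨x, hx⟩ * (θ ⟨c, hc⟩)⁻¹ = θ ⟨c * x * c⁻¹, mul_mem (mul_mem hc hx) (inv_mem hc)⟩ :=
    fun c x hc hx => by rw [← map_inv, ← map_mul, ← map_mul]; rfl
  -- `sM` is fused to `t`
  have hsfused : ∃ g : G, g * θ ⟨sM, hF.sM_mem⟩ * g⁻¹ = t := by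
    obtain ⟨g, hgC, hgne⟩ := exists_fused hO hZ ht
    obtain ⟨x, hx⟩ : g * t * g⁻¹ ∈ Set.range θ := by rw [hrange]; exact hgC
    have hx2 : (x : GT) * x = 1 := by
      refine congrArg Subtype.val (hθ (?_ : θ (x * x) = θ 1))
      rw [map_mul, map_one, hx]
      calc g * t * g⁻¹ * (g * t * g⁻¹) = g * (t * t) * g⁻¹ := by group
        _ = 1 := by rw [← pow_two t, ← ht, pow_orderOf_eq_one, mul_one, mul_inv_cancel]
    rcases hF.inv_classes x x.2 hx2 with h | h | ⟨c, hc, hce⟩ | ⟨c, hc, hce⟩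
    · rw [show x = 1 from Subtype.ext h, map_one, eq_comm, conj_eq_one_iff] at hx
      exact absurd hx ht1
    · exact absurd (by rw [← hx, show x = ⟨tM, htM⟩ from Subtype.ext h, hθt]) hgne
    · refine ⟨g⁻¹ * θ ⟨c, hc⟩, ?_⟩
      calc g⁻¹ * θ ⟨c, hc⟩ * θ ⟨sM, hF.sM_mem⟩ * (g⁻¹ * θ ⟨c, hc⟩)⁻¹
          = g⁻¹ * (θ ⟨c, hc⟩ * θ ⟨sM, hF.sM_mem⟩ * (θ ⟨c, hc⟩)⁻¹) * g := by group
        _ = g⁻¹ * θ x * g := by rw [hconj]; exact congrArg (fun z => g⁻¹ * θ z * g) (Subtype.ext hce)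
        _ = t := by rw [hx]; group
    · refine absurd ?_ (hne (g⁻¹ * θ ⟨c, hc⟩))
      calc g⁻¹ * θ ⟨c, hc⟩ * θ ⟨eM, hF.eM_mem⟩ * (g⁻¹ * θ ⟨c, hc⟩)⁻¹
          = g⁻¹ * (θ ⟨c, hc⟩ * θ ⟨eM, hF.eM_mem⟩ * (θ ⟨c, hc⟩)⁻¹) * g := by group
        _ = g⁻¹ * θ x * g := by rw [hconj]; exact congrArg (fun z => g⁻¹ * θ z * g) (Subtype.ext hce)
        _ = t := by rw [hx]; group
  -- the four-space
  have hEcomm : ∀ a ∈ EM, ∀ b ∈ EM, a * b = b * a := fun a ha b hb => by
    have h : a ∈ Subgroup.centralizer (EM : Set GT) := hF.cent_EM.symm ▸ ha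
    exact (Subgroup.mem_centralizer_iff.1 h b hb).symm
  have hEC : EM ≤ Cc := fun a ha =>
    Subgroup.mem_centralizer_singleton_iff.2 (hEcomm a ha tM hF.tM_mem_EM)
  let E : Subgroup G := (EM.subgroupOf Cc).map θ
  have hmemE : ∀ c : ↥Cc, θ c ∈ E ↔ (c : GT) ∈ EM := fun c => by
    rw [Subgroup.mem_map]
    exact ⟨fun ⟨d, hd, e⟩ => by rw [← hθ e]; exact hd, fun h => ⟨c, h, rfl⟩⟩
  have hEle : E ≤ Subgroup.centralizer {t} := fun x hx => by
    obtain ⟨c, -, rfl⟩ := hx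
    exact Subgroup.mem_centralizer_singleton_iff.2 (inC c)
  have htE : t ∈ E := by rw [← hθt htM]; exact (hmemE _).2 hF.tM_mem_EM
  have hsE : θ ⟨sM, hF.sM_mem⟩ ∈ E := (hmemE _).2 hF.sM_mem_EM
  have hE16 : Nat.card E = 16 := by
    rw [Subgroup.card_map_of_injective hθ,
      Nat.card_congr (Subgroup.subgroupOfEquivOfLe hEC).toEquiv, hF.card_EM]
  have hE2 : ∀ a ∈ E, a * a = 1 := fun a ha => by
    obtain ⟨c, hc, rfl⟩ := ha
    rw [← map_mul, show c * c = 1 from Subtype.ext (hF.sq_EM _ hc), map_one]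
  have hcE : Subgroup.centralizer (E : Set G) = E := by
    refine le_antisymm (fun g hg => ?_) fun a ha => Subgroup.mem_centralizer_iff.2 fun b hb => ?_
    · obtain ⟨c, rfl⟩ : g ∈ Set.range θ := by
        rw [hrange]
        exact Subgroup.mem_centralizer_singleton_iff.2
          (Subgroup.mem_centralizer_iff.1 hg t htE).symm
      refine (hmemE c).2 ?_
      rw [← hF.cent_EM]
      refine Subgroup.mem_centralizer_iff.2 fun a ha => congrArg Subtype.val
        (hθ (?_ : θ (⟨a, hEC ha⟩ * c) = θ (c * ⟨a, hEC ha⟩)))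
      rw [map_mul, map_mul]
      exact Subgroup.mem_centralizer_iff.1 hg _ ((hmemE _).2 ha)
    · obtain ⟨c, hc, rfl⟩ := ha
      obtain ⟨d, hd, rfl⟩ := hb
      rw [← map_mul, ← map_mul]
      exact congrArg θ (Subtype.ext (hEcomm _ hd _ hc))
  let N : Subgroup G := Subgroup.normalizer (E : Set G)
  have hNC : ∀ c : ↥Cc, θ c ∈ N ↔ (c : GT) ∈ NE := fun c => by
    rw [Subgroup.mem_normalizer_iff, Subgroup.mem_normalizer_iff]
    constructor
    · intro h x
      constructor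
      · intro hx
        have := (h (θ ⟨x, hEC hx⟩)).1 ((hmemE _).2 hx)
        rw [← map_inv, ← map_mul, ← map_mul, hmemE] at this
        exact this
      · intro hx
        have hxC : x ∈ Cc := by
          have := mul_mem (mul_mem (inv_mem c.2) (hEC hx)) c.2
          simpa [mul_assoc] using this
        refine (hmemE ⟨x, hxC⟩).1 ((h _).2 ?_)
        rw [← map_inv, ← map_mul, ← map_mul, hmemE]
        exact hx
    · intro h x
      constructor
      · rintro ⟨a, ha, rfl⟩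
        rw [← map_inv, ← map_mul, ← map_mul, hmemE]
        exact (h (a : GT)).1 ha
      · intro hx
        obtain ⟨b, hb, hbe⟩ := hx
        have e : x = θ (c⁻¹ * b * c) := by rw [map_mul, map_mul, map_inv, hbe]; group
        rw [e, hmemE]
        refine (h _).2 ?_
        show (c : GT) * ((c : GT)⁻¹ * (b : GT) * c) * (c : GT)⁻¹ ∈ EM
        simpa [mul_assoc] using Subgroup.mem_subgroupOf.1 hb
  have hPimg : Subgroup.centralizer {t} ⊓ N = (NE.subgroupOf Cc).map θ := by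
    ext g
    constructor
    · intro hg
      obtain ⟨c, rfl⟩ : g ∈ Set.range θ := by rw [hrange]; exact hg.1
      exact ⟨c, (hNC c).1 hg.2, rfl⟩
    · rintro ⟨c, hc, rfl⟩
      exact ⟨Subgroup.mem_centralizer_singleton_iff.2 (inC c), (hNC c).2 hc⟩
  have hPcard : Nat.card (Subgroup.centralizer {t} ⊓ N : Subgroup G) = 21504 := by
    rw [hPimg, Subgroup.card_map_of_injective hθ, ← Subgroup.inf_subgroupOf_left,
      Nat.card_congr (Subgroup.subgroupOfEquivOfLe inf_le_left).toEquiv, hF.card_NC]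
  have htr : ∀ a ∈ E, a ≠ 1 → a ≠ t →
      ∃ c ∈ Subgroup.centralizer {t} ⊓ N, c * θ ⟨sM, hF.sM_mem⟩ * c⁻¹ = a := by
    rintro _ ⟨a, ha, rfl⟩ h1 h2
    obtain ⟨c, hc, hce⟩ := hF.class_EM a ha
      (fun h => h1 (by rw [show a = 1 from Subtype.ext h, map_one]))
      (fun h => h2 (by rw [show a = ⟨tM, htM⟩ from Subtype.ext h, hθt]))
    refine ⟨θ ⟨c, hc.1⟩, hPimg.symm ▸ ⟨⟨c, hc.1⟩, hc.2, rfl⟩, ?_⟩
    rw [hconj]
    exact congrArg θ (Subtype.ext hce)
  -- some element of the normaliser moves `t`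
  have hmove : ∃ n ∈ N, n * θ ⟨sM, hF.sM_mem⟩ * n⁻¹ = t := by
    obtain ⟨g, hg⟩ := hsfused
    have hgE : ∀ a ∈ E, g * a * g⁻¹ ∈ Set.range θ := fun a ha => by
      rw [hrange, SetLike.mem_coe, Subgroup.mem_centralizer_singleton_iff]
      have hcm : θ ⟨sM, hF.sM_mem⟩ * a = a * θ ⟨sM, hF.sM_mem⟩ :=
        Subgroup.mem_centralizer_iff.1 (hcE.symm ▸ ha : a ∈ Subgroup.centralizer (E : Set G)) _ hsE
      have e : g * a * g⁻¹ * (g * θ ⟨sM, hF.sM_mem⟩ * g⁻¹) =
          g * θ ⟨sM, hF.sM_mem⟩ * g⁻¹ * (g * a * g⁻¹) := by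
        calc g * a * g⁻¹ * (g * θ ⟨sM, hF.sM_mem⟩ * g⁻¹)
            = g * (a * θ ⟨sM, hF.sM_mem⟩) * g⁻¹ := by group
          _ = g * (θ ⟨sM, hF.sM_mem⟩ * a) * g⁻¹ := by rw [hcm]
          _ = _ := by group
      rwa [hg] at e
    let F : Subgroup GT := ((E.map (MulAut.conj g).toMonoidHom).comap θ).map Cc.subtype
    have hFC : F ≤ Cc := Subgroup.map_subtype_le _
    have hle : E.map (MulAut.conj g).toMonoidHom ≤ θ.range := by
      rintro _ ⟨a, ha, rfl⟩
      obtain ⟨y, hy⟩ := hgE a ha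
      exact ⟨y, hy⟩
    have hF16 : Nat.card F = 16 := by
      rw [Subgroup.card_map_of_injective Subtype.val_injective, ← hE16,
        ← Subgroup.card_map_of_injective (K := E) (f := (MulAut.conj g).toMonoidHom) (MulAut.conj g).injective]
      conv_rhs => rw [← Subgroup.map_comap_eq_self hle]
      rw [Subgroup.card_map_of_injective hθ]
    have hFmem : ∀ x, x ∈ F → ∃ hx : x ∈ Cc, ∃ a ∈ E, θ ⟨x, hx⟩ = g * a * g⁻¹ := by
      rintro _ ⟨y, ⟨a, ha, hae⟩, rfl⟩
      exact ⟨y.2, a, ha, hae.symm⟩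
    obtain ⟨c, hc, hcF⟩ := hF.unique_EM F hFC hF16
      (fun x hx => by
        obtain ⟨hxC, a, ha, e⟩ := hFmem x hx
        refine congrArg Subtype.val (hθ (?_ : θ (⟨x, hxC⟩ * ⟨x, hxC⟩) = θ 1))
        rw [map_mul, map_one, e]
        calc g * a * g⁻¹ * (g * a * g⁻¹) = g * (a * a) * g⁻¹ := by group
          _ = 1 := by rw [hE2 a ha, mul_one, mul_inv_cancel])
      ⟨⟨tM, htM⟩, ⟨_, hsE, by rw [hθt]; exact hg⟩, rfl⟩
      (fun x hx h1 h2 => by
        obtain ⟨hxC, a, ha, e⟩ := hFmem x hx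
        have hx2 : x * x = 1 := by
          refine congrArg Subtype.val (hθ (?_ : θ (⟨x, hxC⟩ * ⟨x, hxC⟩) = θ 1))
          rw [map_mul, map_one, e]
          calc g * a * g⁻¹ * (g * a * g⁻¹) = g * (a * a) * g⁻¹ := by group
            _ = 1 := by rw [hE2 a ha, mul_one, mul_inv_cancel]
        rcases hF.inv_classes x hxC hx2 with h | h | h | ⟨d, hd, hde⟩
        · exact absurd h h1
        · exact absurd h h2
        · exact h
        exfalso
        -- every element of `E` is `1` or conjugate to `t`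
        have ha1 : a ≠ 1 := fun e1 => h1 (by
          rw [e1, mul_one, mul_inv_cancel] at e
          exact congrArg Subtype.val (hθ (e.trans (map_one θ).symm)))
        obtain ⟨k, hk⟩ : ∃ k : G, k * a * k⁻¹ = t := by
          by_cases hat : a = t
          · exact ⟨1, by simp [hat]⟩
          obtain ⟨c', -, hc'⟩ := htr a ha ha1 hat
          exact ⟨g * c'⁻¹, by
            rw [← hc']
            calc g * c'⁻¹ * (c' * θ ⟨sM, hF.sM_mem⟩ * c'⁻¹) * (g * c'⁻¹)⁻¹
                = g * θ ⟨sM, hF.sM_mem⟩ * g⁻¹ := by group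
              _ = t := hg⟩
        refine hne (k * g⁻¹ * θ ⟨d, hd⟩) ?_
        calc k * g⁻¹ * θ ⟨d, hd⟩ * θ ⟨eM, hF.eM_mem⟩ * (k * g⁻¹ * θ ⟨d, hd⟩)⁻¹
            = k * g⁻¹ * (θ ⟨d, hd⟩ * θ ⟨eM, hF.eM_mem⟩ * (θ ⟨d, hd⟩)⁻¹) * g * k⁻¹ := by group
          _ = k * g⁻¹ * θ ⟨x, hxC⟩ * g * k⁻¹ := by
            rw [hconj]
            exact congrArg (fun z => k * g⁻¹ * θ z * g * k⁻¹) (Subtype.ext hde)
          _ = t := by rw [e, ← hk]; group)
    refine ⟨θ ⟨c, hc⟩ * g, ?_, ?_⟩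
    · have hsub : E.map (MulAut.conj (θ ⟨c, hc⟩ * g)).toMonoidHom ≤ E := by
        rintro _ ⟨a, ha, rfl⟩
        obtain ⟨y, hy⟩ := hgE a ha
        show θ ⟨c, hc⟩ * g * a * (θ ⟨c, hc⟩ * g)⁻¹ ∈ E
        rw [show θ ⟨c, hc⟩ * g * a * (θ ⟨c, hc⟩ * g)⁻¹ = θ ⟨c, hc⟩ * θ y * (θ ⟨c, hc⟩)⁻¹ by
          rw [hy]; group, ← map_inv, ← map_mul, ← map_mul, hmemE]
        exact hcF y ⟨y, ⟨a, ha, hy.symm⟩, rfl⟩
      have heq := Subgroup.eq_of_le_of_card_ge hsub
        (le_of_eq (Subgroup.card_map_of_injective (K := E) (f := (MulAut.conj (θ ⟨c, hc⟩ * g)).toMonoidHom) (MulAut.conj _).injective).symm)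
      refine Subgroup.mem_normalizer_iff.2 fun a => ⟨fun ha => heq ▸ ⟨a, ha, rfl⟩, fun ha => ?_⟩
      rw [← heq] at ha
      obtain ⟨b, hb, e⟩ := ha
      rwa [(MulAut.conj (θ ⟨c, hc⟩ * g)).injective e] at hb
    · calc θ ⟨c, hc⟩ * g * θ ⟨sM, hF.sM_mem⟩ * (θ ⟨c, hc⟩ * g)⁻¹
          = θ ⟨c, hc⟩ * (g * θ ⟨sM, hF.sM_mem⟩ * g⁻¹) * (θ ⟨c, hc⟩)⁻¹ := by group
        _ = t := by rw [hg, inC, mul_inv_cancel_right]
  -- both normalisers have full automizer
  obtain ⟨hidxG, hfullG⟩ := normalizer_full ht1 htE hE16 hE2 hcE hPcard htr hmove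
  have htM1 : tM ≠ 1 := fun e => by
    have := hF.order_tM
    rw [e, orderOf_one] at this
    exact absurd this (by norm_num)
  obtain ⟨-, hfullM⟩ := normalizer_full (H := GT) htM1 hF.tM_mem_EM hF.card_EM hF.sq_EM hF.cent_EM
    hF.card_NC (fun a ha h1 h2 => hF.class_EM a ha h1 h2) ⟨gM, hF.gM_mem, hF.gM_sM⟩
  -- the extension to the normalisers
  let PG : Subgroup ↥N := (Subgroup.centralizer {t} ⊓ N : Subgroup G).subgroupOf N
  let QM : Subgroup ↥NE := (Cc ⊓ NE : Subgroup GT).subgroupOf NE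
  have hQ : ∀ q : ↥QM, θ ⟨((q : ↥NE) : GT), q.2.1⟩ ∈ Subgroup.centralizer {t} ⊓ N := fun q =>
    ⟨Subgroup.mem_centralizer_singleton_iff.2 (inC _), (hNC _).2 q.2.2⟩
  let w₀ : ↥QM →* ↥PG :=
    { toFun := fun q => ⟨⟨θ ⟨((q : ↥NE) : GT), q.2.1⟩, (hQ q).2⟩, hQ q⟩
      map_one' := Subtype.ext (Subtype.ext (map_one θ))
      map_mul' := fun a b => Subtype.ext (Subtype.ext
        (map_mul θ ⟨((a : ↥NE) : GT), a.2.1⟩ ⟨((b : ↥NE) : GT), b.2.1⟩)) }
  have hw : Function.Bijective w₀ := by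
    refine ⟨fun a b h => ?_, fun p => ?_⟩
    · have h' := congrArg Subtype.val
        (hθ (congrArg (fun z : ↥PG => ((z : ↥N) : G)) h : θ _ = θ _))
      exact Subtype.ext (Subtype.ext h')
    · obtain ⟨c, hc, hce⟩ : ((p : ↥N) : G) ∈ (NE.subgroupOf Cc).map θ := hPimg ▸ p.2
      exact ⟨⟨⟨c, hc⟩, c.2, hc⟩, Subtype.ext (Subtype.ext hce)⟩
  let w : ↥QM ≃* ↥PG := MulEquiv.ofBijective w₀ hw
  have hwv : ∀ q : ↥QM, ((w q : ↥N) : G) = θ ⟨((q : ↥NE) : GT), q.2.1⟩ := fun _ => rfl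
  haveI : (E.subgroupOf N).Normal := Subgroup.normal_in_normalizer
  haveI : (EM.subgroupOf NE).Normal := Subgroup.normal_in_normalizer
  have hEN : E ≤ N := Subgroup.le_normalizer
  have hEMN : EM ≤ NE := Subgroup.le_normalizer
  obtain ⟨ψ₀, hψ₀⟩ := exists_equiv_of_odd_index (N := ↥N) (M := ↥NE) (E := E.subgroupOf N) (P := PG)
    (F := EM.subgroupOf NE) (Q := QM)
    (fun x hx => show (x : G) ∈ Subgroup.centralizer {t} ⊓ N from ⟨hEle hx, x.2⟩)
    (fun x hx => show (x : GT) ∈ Cc ⊓ NE from ⟨hEC hx, x.2⟩)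
    (fun x hx => Subtype.ext (hE2 _ hx))
    (by
      ext x
      constructor
      · intro hx
        show (x : G) ∈ E
        rw [← hcE]
        exact Subgroup.mem_centralizer_iff.2 fun a ha =>
          congrArg Subtype.val (Subgroup.mem_centralizer_iff.1 hx ⟨a, hEN ha⟩ ha)
      · intro hx
        exact Subgroup.mem_centralizer_iff.2 fun a ha => Subtype.ext
          (Subgroup.mem_centralizer_iff.1 (hcE.symm ▸ hx : (x : G) ∈ Subgroup.centralizer (E : Set G))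
            _ ha))
    (by
      ext x
      constructor
      · intro hx
        show (x : GT) ∈ EM
        rw [← hF.cent_EM]
        exact Subgroup.mem_centralizer_iff.2 fun a ha =>
          congrArg Subtype.val (Subgroup.mem_centralizer_iff.1 hx ⟨a, hEMN ha⟩ ha)
      · intro hx
        exact Subgroup.mem_centralizer_iff.2 fun a ha => Subtype.ext (hEcomm _ ha _ hx))
    (fun α => by
      let j := Subgroup.subgroupOfEquivOfLe hEN
      obtain ⟨n, hn, hne⟩ := hfullG ((j.symm.trans α).trans j)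
      refine ⟨⟨n, hn⟩, fun a => Subtype.ext ?_⟩
      have h := hne (j a)
      simp only [MulEquiv.trans_apply, MulEquiv.symm_apply_apply] at h
      exact h)
    (fun α => by
      let j := Subgroup.subgroupOfEquivOfLe hEMN
      obtain ⟨n, hn, hne⟩ := hfullM ((j.symm.trans α).trans j)
      refine ⟨⟨n, hn⟩, fun a => Subtype.ext ?_⟩
      have h := hne (j a)
      simp only [MulEquiv.trans_apply, MulEquiv.symm_apply_apply] at h
      exact h)
    (by rw [show PG.index = 15 from hidxG]; decide)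
    w.symm
    (fun p => by
      obtain ⟨q, rfl⟩ := w.surjective p
      rw [MulEquiv.symm_apply_apply]
      show ((w q : ↥N) : G) ∈ E ↔ _
      rw [hwv, hmemE]
      rfl)
    (fun α hα1 hα2 => by
      let j := Subgroup.subgroupOfEquivOfLe (inf_le_right : (Cc ⊓ NE : Subgroup GT) ≤ NE)
      obtain ⟨f, hf, hfc⟩ := hF.gauge ((j.symm.trans α).trans j)
        (fun q hq => by
          show j (α (j.symm q)) = q
          rw [hα1 (j.symm q) hq, MulEquiv.apply_symm_apply])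
        (fun q => hα2 (j.symm q))
      refine ⟨⟨f, hEMN hf⟩, hf, fun q => Subtype.ext ?_⟩
      have h := hfc (j q)
      simp only [MulEquiv.trans_apply, MulEquiv.symm_apply_apply] at h
      exact h)
  let ψ : ↥NE →* G := N.subtype.comp ψ₀.symm.toMonoidHom
  have hagree : ∀ (x : GT) (h : x ∈ Cc) (h' : x ∈ NE), θ ⟨x, h⟩ = ψ ⟨x, h'⟩ := fun x h h' => by
    have e := hψ₀ (w ⟨⟨x, h'⟩, h, h'⟩)
    rw [MulEquiv.symm_apply_apply] at e
    show θ ⟨x, h⟩ = (ψ₀.symm ⟨x, h'⟩ : G)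
    have e' : ψ₀.symm ⟨x, h'⟩ = (w ⟨⟨x, h'⟩, h, h'⟩ : ↥N) := by
      rw [MulEquiv.symm_apply_eq]; exact e.symm
    rw [e', hwv]
  refine ⟨⟨θ, ψ, hθ, hagree, ?_⟩, hrange, hθt, fun _ g => hne g⟩
  -- conjugation by `gM`
  intro x hx hxD hg hy
  have hD1C : D1 ≤ Cc := fun d hd => Subgroup.mem_centralizer_singleton_iff.2
    (Subgroup.mem_centralizer_iff.1 hd tM (Set.mem_insert _ _)).symm
  have hgD : ∀ d ∈ D1, gM * d * gM⁻¹ ∈ D1 := fun d hd => by
    have a1 := Subgroup.mem_centralizer_iff.1 hd tM (Set.mem_insert _ _)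
    have a2 := Subgroup.mem_centralizer_iff.1 hd sM (Set.mem_insert_of_mem _ rfl)
    have b1 : gM * sM * gM⁻¹ * (gM * d * gM⁻¹) = gM * d * gM⁻¹ * (gM * sM * gM⁻¹) := by
      calc gM * sM * gM⁻¹ * (gM * d * gM⁻¹) = gM * (sM * d) * gM⁻¹ := by group
        _ = gM * (d * sM) * gM⁻¹ := by rw [a2]
        _ = _ := by group
    have b2 : gM * tM * gM⁻¹ * (gM * d * gM⁻¹) = gM * d * gM⁻¹ * (gM * tM * gM⁻¹) := by
      calc gM * tM * gM⁻¹ * (gM * d * gM⁻¹) = gM * (tM * d) * gM⁻¹ := by group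
        _ = gM * (d * tM) * gM⁻¹ := by rw [a1]
        _ = _ := by group
    rw [hF.gM_sM] at b1
    rw [hF.gM_tM] at b2
    refine Subgroup.mem_centralizer_iff.2 fun z hz => ?_
    rcases hz with rfl | rfl
    · exact b1
    · have h : tM * sM * (gM * d * gM⁻¹) = tM * (gM * d * gM⁻¹ * sM) := by
        rw [b2, ← mul_assoc, ← b1, mul_assoc, mul_assoc]
      rw [mul_assoc] at h
      exact mul_left_cancel h
  obtain ⟨k, hk⟩ : ∃ k, k = ψ ⟨gM, hg⟩ := ⟨_, rfl⟩
  have hkconj : ∀ (z : GT) (hz : z ∈ Cc) (hz' : z ∈ NE) (hz2 : gM * z * gM⁻¹ ∈ Cc),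
      θ ⟨gM * z * gM⁻¹, hz2⟩ = k * θ ⟨z, hz⟩ * k⁻¹ := fun z hz hz' hz2 => by
    rw [hagree _ hz2 (mul_mem (mul_mem hg hz') (inv_mem hg)), hagree z hz hz', hk, ← map_inv,
      ← map_mul, ← map_mul]
    rfl
  have hts : gM * tM * gM⁻¹ ∈ Cc := by
    rw [hF.gM_tM]; exact mul_mem htM hF.sM_mem
  have hss : gM * sM * gM⁻¹ ∈ Cc := by rw [hF.gM_sM]; exact htM
  have kt : k * t * k⁻¹ = θ ⟨gM * tM * gM⁻¹, hts⟩ := by
    rw [hkconj tM htM (hEMN hF.tM_mem_EM) hts, hθt]
  have ks : k * θ ⟨sM, hF.sM_mem⟩ * k⁻¹ = t := by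
    rw [← hkconj sM hF.sM_mem (hEMN hF.sM_mem_EM) hss, ← hθt htM]
    exact congrArg θ (Subtype.ext hF.gM_sM)
  have back : ∀ d : ↥D1, ∃ z : ↥D1, θ ⟨z, hD1C z.2⟩ =
      k⁻¹ * θ ⟨gM * d * gM⁻¹, hD1C (hgD d d.2)⟩ * k := fun d => by
    have hd := hgD d d.2
    obtain ⟨y, hy⟩ : ∃ y, y = θ ⟨gM * d * gM⁻¹, hD1C hd⟩ := ⟨_, rfl⟩
    rw [← hy]
    have y1 : θ ⟨gM * tM * gM⁻¹, hts⟩ * y = y * θ ⟨gM * tM * gM⁻¹, hts⟩ := by
      rw [hy, ← map_mul, ← map_mul]
      refine congrArg θ (Subtype.ext ?_)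
      have a1 := Subgroup.mem_centralizer_iff.1 d.2 tM (Set.mem_insert _ _)
      show gM * tM * gM⁻¹ * (gM * (d : GT) * gM⁻¹) = gM * (d : GT) * gM⁻¹ * (gM * tM * gM⁻¹)
      calc gM * tM * gM⁻¹ * (gM * (d : GT) * gM⁻¹) = gM * (tM * d) * gM⁻¹ := by group
        _ = gM * ((d : GT) * tM) * gM⁻¹ := by rw [a1]
        _ = _ := by group
    have y2 : t * y = y * t := by rw [hy]; exact (inC _).symm
    obtain ⟨z, hz⟩ : k⁻¹ * y * k ∈ Set.range θ := by
      rw [hrange, SetLike.mem_coe, Subgroup.mem_centralizer_singleton_iff]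
      calc k⁻¹ * y * k * t = k⁻¹ * (y * (k * t * k⁻¹)) * k := by group
        _ = k⁻¹ * (k * t * k⁻¹ * y) * k := by rw [kt, y1]
        _ = _ := by group
    refine ⟨⟨z, Subgroup.mem_centralizer_iff.2 fun v hv => ?_⟩, hz⟩
    rcases hv with rfl | rfl
    · exact (Subgroup.mem_centralizer_singleton_iff.1 z.2).symm
    · refine congrArg Subtype.val (hθ (?_ : θ (⟨sM, hF.sM_mem⟩ * z) = θ (z * ⟨sM, hF.sM_mem⟩)))
      rw [map_mul, map_mul, hz]
      calc θ ⟨sM, hF.sM_mem⟩ * (k⁻¹ * y * k)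
          = k⁻¹ * (k * θ ⟨sM, hF.sM_mem⟩ * k⁻¹ * y) * k := by group
        _ = k⁻¹ * (y * (k * θ ⟨sM, hF.sM_mem⟩ * k⁻¹)) * k := by rw [ks, y2]
        _ = _ := by group
  choose a ha using back
  have hinj : Function.Injective a := fun d d' e => by
    have h := ha d
    rw [e, ha d', mul_left_inj, mul_right_inj] at h
    exact Subtype.ext (mul_left_cancel (mul_right_cancel (congrArg Subtype.val (hθ h)))).symm
  have hmul : ∀ d d', a (d * d') = a d * a d' := fun d d' => by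
    have hh : θ ⟨a (d * d'), hD1C (a (d * d')).2⟩ =
        θ (⟨a d, hD1C (a d).2⟩ * ⟨a d', hD1C (a d').2⟩) := ?_
    · exact Subtype.ext (congrArg (fun c : ↥Cc => (c : GT)) (hθ hh))
    rw [map_mul, ha, ha, ha]
    rw [show θ ⟨gM * ((d * d' : ↥D1) : GT) * gM⁻¹, hD1C (hgD _ (d * d').2)⟩ =
      θ (⟨gM * d * gM⁻¹, hD1C (hgD _ d.2)⟩ * ⟨gM * d' * gM⁻¹, hD1C (hgD _ d'.2)⟩) from
      congrArg θ (Subtype.ext (by simp [mul_assoc])), map_mul]
    group
  have hone : a 1 = 1 := mul_eq_left.1 ((hmul 1 1).symm.trans (by rw [mul_one]))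
  let α : ↥D1 ≃* ↥D1 :=
    MulEquiv.ofBijective ({ toFun := a, map_one' := hone, map_mul' := hmul } : ↥D1 →* ↥D1)
      (Finite.injective_iff_bijective.1 hinj)
  have hfix : ∀ d : ↥D1, (d : GT) ∈ NE → α d = d := fun d hd => by
    have hh : θ ⟨a d, hD1C (a d).2⟩ = θ ⟨d, hD1C d.2⟩ := ?_
    · exact Subtype.ext (congrArg (fun c : ↥Cc => (c : GT)) (hθ hh))
    rw [ha, hkconj d (hD1C d.2) hd (hD1C (hgD d d.2))]
    group
  have hid := hF.phi_unique α hfix ⟨x, hxD⟩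
  have h := ha ⟨x, hxD⟩
  rw [show a ⟨x, hxD⟩ = ⟨x, hxD⟩ from hid] at h
  show θ ⟨gM * x * gM⁻¹, hy⟩ = ψ ⟨gM, hg⟩ * θ ⟨x, hx⟩ * (ψ ⟨gM, hg⟩)⁻¹
  rw [← hk, show θ ⟨x, hx⟩ = k⁻¹ * θ ⟨gM * x * gM⁻¹, hy⟩ * k from h]
  group

end CfsgLib.CoThreeUnique
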