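import Cfsg.Agent.Lib.CoThreeUnique.Data
import Cfsg.Agent.Lib.Sporadic.PairOutBase
import Cfsg.Agent.Lib.Sporadic.ConwayThreeOut

/-!
The third Conway group on its two hundred and seventy-six pairs `{u, v - u}`, with explicit elements.
-/

set_option autoImplicit false
set_option maxRecDepth 100000
set_option linter.style.haveILetI false

namespace CfsgLib.CoThreeUnique

open Cfsg CfsgLib.Golay CfsgLib.MonsterType CfsgLib.LeechEight Subgroup
open CfsgLib.Sporadic
open CfsgLib.Sporadic.PairOut (stepRows acts_rowsAut)
open Conway.ThreeOut (GT gA gB gZ vT vecList vecList_injective stepA stepB stepZ acts_gA acts_gB acts_gZ)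

/-- The image of a point in a packed permutation. -/
def pimg (c i : ℕ) : ℕ := (c >>> (9 * i)) &&& 511

/-- The list of a pair representative. -/
def vl (i : ℕ) : List ℤ := Data.vecs.getD i []

/-- The vector `vT` as a list. -/
def vtl : List ℤ := List.replicate 23 1 ++ [5]

/-- The partner of a vector in its pair. -/
def subV (l : List ℤ) : List ℤ := (List.range 24).map fun k => vtl.getD k 0 - l.getD k 0

/-- The coordinate function of a pair representative. -/
def vecFun (i : ℕ) : GolayPt → ℤ := fun p => (vl i).getD (idx p).val 0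

theorem vecs_ok : (List.range 276).all (fun i => leechTest (vecFun i)) = true := by decide +kernel

/-- The representative of a pair. -/
def vec (i : Fin 276) : leechLattice :=
  ⟨vecFun i, mem_of_leechTest (List.all_eq_true.1 vecs_ok i (List.mem_range.2 i.2))⟩

theorem vecList_vec (i : Fin 276) : vecList ((vec i : leechLattice) : GolayPt → ℤ) = vl i := by
  have h : ∀ i : Fin 276, List.ofFn (fun k : Fin 24 => (vl i).getD k 0) = vl i := by decide +kernel
  conv_rhs => rw [← h i]
  refine congrArg List.ofFn (funext fun k => ?_)
  show (vl i).getD (idx (pt k)).val 0 = _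
  rw [idx_pt]

theorem vecList_sub (u : leechLattice) :
    vecList (((vT - u : leechLattice)) : GolayPt → ℤ) = subV (vecList (u : GolayPt → ℤ)) := by
  have hv : vecList ((vT : leechLattice) : GolayPt → ℤ) = vtl := by
    rw [Conway.ThreeOut.coe_vT]
    decide +kernel
  refine List.ext_getElem (by simp [vecList, subV]) fun k h1 h2 => ?_
  have hk : k < 24 := by simpa [vecList] using h1
  simp only [subV, List.getElem_map, List.getElem_range, ← hv, vecList, List.getElem_ofFn]
  rw [List.getD_eq_getElem _ _ (by simp [hk]), List.getD_eq_getElem _ _ (by simp [hk]), List.getElem_ofFn,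
    List.getElem_ofFn]
  rfl

/-- `g` maps the representative of `i` into the pair `j`. -/
def Maps (g : GT) (i j : Fin 276) : Prop :=
  (g : Co0) • vec i = vec j ∨ (g : Co0) • vec i = vT - vec j

theorem smul_vT (g : GT) : (g : Co0) • (vT : leechLattice) = vT := g.2

theorem smul_partner (g : GT) (u : leechLattice) : (g : Co0) • (vT - u) = vT - (g : Co0) • u := by
  have h : (g : Co0) • (vT - u + u) = (g : Co0) • (vT - u) + (g : Co0) • u := (g : Co0).2.1 (vT - u) u
  rw [sub_add_cancel, smul_vT] at h
  exact eq_sub_of_add_eq h.symm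

theorem maps_one (i : Fin 276) : Maps 1 i i := Or.inl (one_smul _ _)

theorem maps_mul {g h : GT} {i j k : Fin 276} (hh : Maps h i j) (hg : Maps g j k) : Maps (g * h) i k := by
  simp only [Maps, Subgroup.coe_mul, mul_smul]
  rcases hh with e | e <;> rw [e] <;> rcases hg with e' | e'
  · exact Or.inl e'
  · exact Or.inr e'
  · exact Or.inr (by rw [smul_partner, e'])
  · exact Or.inl (by rw [smul_partner, e', sub_sub_cancel])

/-- A code of a vector. -/
def enc (l : List ℤ) : ℕ := l.foldl (fun a x => a * 64 + (x + 32).toNat) 0

theorem vecs_distinct : ((List.range 276).all fun i => (List.range 276).all fun j =>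
    (i == j || (!(Nat.beq (enc (vl i)) (enc (vl j))) && !(Nat.beq (enc (vl i)) (enc (subV (vl j))))))) = true := by
  decide +kernel

theorem maps_unique {g : GT} {i j k : Fin 276} (h : Maps g i j) (h' : Maps g i k) : j = k := by
  by_contra hne
  have hd := List.all_eq_true.1 (List.all_eq_true.1 vecs_distinct j (List.mem_range.2 j.2)) k
    (List.mem_range.2 k.2)
  simp only [Bool.or_eq_true, beq_iff_eq, Bool.and_eq_true, Bool.not_eq_true'] at hd
  have hd1 : vec j ≠ vec k ∧ vec j ≠ vT - vec k := by
    rcases hd with e | ⟨e1, e2⟩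
    · exact absurd (Fin.ext e) hne
    constructor <;> intro e <;> replace e := congrArg (fun u : leechLattice => enc (vecList (u : GolayPt → ℤ))) e
    · simp only [vecList_vec] at e
      rw [e, Nat.beq_refl] at e1
      exact Bool.noConfusion e1
    · simp only [vecList_sub, vecList_vec] at e
      rw [e, Nat.beq_refl] at e2
      exact Bool.noConfusion e2
  rcases h with e | e <;> rcases h' with e' | e' <;> have e'' := e.symm.trans e'
  · exact hd1.1 e''
  · exact hd1.2 e''
  · exact hd1.2 (by rw [← e'', sub_sub_cancel])
  · exact hd1.1 (sub_right_injective e'')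

/-- The check that rows act on the pairs as a packed permutation. -/
def goodOK (f : List ℤ → List ℤ) (c : ℕ) : Bool :=
  (List.range 276).all fun i => Nat.blt (pimg c i) 276 &&
    ((f (vl i) == vl (pimg c i)) || (f (vl i) == subV (vl (pimg c i))))

theorem maps_of_good {g : GT} {f : List ℤ → List ℤ} (hg : Conway.ThreeOut.Acts g f) {c : ℕ}
    (h : goodOK f c = true) (i : Fin 276) : ∃ hlt : pimg c i < 276, Maps g i ⟨pimg c i, hlt⟩ := by
  have hi := List.all_eq_true.1 h i (List.mem_range.2 i.2)
  simp only [Bool.and_eq_true, Bool.or_eq_true, beq_iff_eq] at hi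
  obtain ⟨hlt, hi⟩ := hi
  refine ⟨Nat.le_of_ble_eq_true hlt, ?_⟩
  have hv := hg (vec i)
  rw [vecList_vec] at hv
  rcases hi with e | e
  · refine Or.inl (Subtype.ext (vecList_injective ?_))
    rw [hv, e, vecList_vec]
  · refine Or.inr (Subtype.ext (vecList_injective ?_))
    rw [hv, e, vecList_sub, vecList_vec]

theorem good_gens : (goodOK stepA Data.pA && goodOK stepB Data.pB && goodOK stepZ Data.pZ) = true := by
  decide +kernel

theorem exists_maps (g : GT) (i : Fin 276) : ∃ j, Maps g i j := by
  have := Conway.ThreeOut.finite_GT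
  have hg : g ∈ Submonoid.closure ({gA, gB, gZ} : Set GT) := by
    rw [← Subgroup.closure_toSubmonoid_of_finite, Subgroup.mem_toSubmonoid,
      Conway.ThreeOut.generates]
    trivial
  have h := good_gens
  simp only [Bool.and_eq_true] at h
  induction hg using Submonoid.closure_induction generalizing i with
  | mem x hx =>
    rcases hx with rfl | rfl | rfl
    · obtain ⟨_, hm⟩ := maps_of_good acts_gA h.1.1 i
      exact ⟨_, hm⟩
    · obtain ⟨_, hm⟩ := maps_of_good acts_gB h.1.2 i
      exact ⟨_, hm⟩
    · obtain ⟨_, hm⟩ := maps_of_good acts_gZ h.2 i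
      exact ⟨_, hm⟩
  | one => exact ⟨i, maps_one i⟩
  | mul x y _ _ ihx ihy =>
    obtain ⟨j, hj⟩ := ihy i
    obtain ⟨k, hk⟩ := ihx j
    exact ⟨k, maps_mul hj hk⟩

/-- The image of a pair. -/
noncomputable def act (g : GT) (i : Fin 276) : Fin 276 := (exists_maps g i).choose

theorem act_spec (g : GT) (i : Fin 276) : Maps g i (act g i) := (exists_maps g i).choose_spec

theorem act_eq {g : GT} {i j : Fin 276} (h : Maps g i j) : act g i = j := maps_unique (act_spec g i) h

theorem act_mul (g h : GT) (i : Fin 276) : act (g * h) i = act g (act h i) :=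
  act_eq (maps_mul (act_spec h i) (act_spec g _))

theorem act_one (i : Fin 276) : act 1 i = i := act_eq (maps_one i)

/-- The action on the pairs. -/
noncomputable def rho : GT →* Equiv.Perm (Fin 276) where
  toFun g :=
    { toFun := act g
      invFun := act g⁻¹
      left_inv := fun i => by rw [← act_mul, inv_mul_cancel, act_one]
      right_inv := fun i => by rw [← act_mul, mul_inv_cancel, act_one] }
  map_one' := Equiv.ext act_one
  map_mul' g h := Equiv.ext (act_mul g h)

theorem rho_apply_of_good {g : GT} {f : List ℤ → List ℤ} (hg : Conway.ThreeOut.Acts g f) {c : ℕ}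
    (h : goodOK f c = true) (i : Fin 276) : (rho g i : ℕ) = pimg c i := by
  obtain ⟨_, hm⟩ := maps_of_good hg h i
  exact congrArg Fin.val (act_eq hm)

theorem isSimpleGroup_GT : IsSimpleGroup GT :=
  (ConwayTwoThree.isCo3 vT (by rw [Conway.ThreeOut.coe_vT]; decide +kernel)).1

theorem rho_injective : Function.Injective rho := by
  have := isSimpleGroup_GT
  rcases rho.normal_ker.eq_bot_or_eq_top with h | h
  · exact (MonoidHom.ker_eq_bot_iff rho).1 h
  · exfalso
    have h1 : gA ∈ rho.ker := h ▸ Subgroup.mem_top _
    have hg := good_gens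
    simp only [Bool.and_eq_true] at hg
    have h2 := rho_apply_of_good acts_gA hg.1.1 0
    rw [MonoidHom.mem_ker.1 h1] at h2
    exact absurd h2 (by decide +kernel)

/-- Two elements with the same images of all pairs are equal. -/
theorem eq_of_rho {g h : GT} (e : ∀ i, (rho g i : ℕ) = rho h i) : g = h :=
  rho_injective (Equiv.ext fun i => Fin.ext (e i))

/-- The conditions on rows to give an element of the group. -/
def elemOK (R : List (List ℤ)) : Bool :=
  frameTest R && (R == List.ofFn fun k : Fin 24 => vecList (rowsFrame R (pt k))) && (stepRows R vtl == vtl)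

theorem elemOK_test {R : List (List ℤ)} (h : elemOK R = true) : frameTest R = true := by
  simp only [elemOK, Bool.and_eq_true] at h
  exact h.1.1

theorem elemOK_fix {R : List (List ℤ)} (h : elemOK R = true) : rowsAut (elemOK_test h) • vT = vT := by
  have h' := h
  simp only [elemOK, Bool.and_eq_true, beq_iff_eq] at h'
  refine Subtype.ext (vecList_injective ?_)
  rw [acts_rowsAut _ h'.1.2 vT]
  have hv : vecList ((vT : leechLattice) : GolayPt → ℤ) = vtl := by
    rw [Conway.ThreeOut.coe_vT]
    decide +kernel
  rw [hv, h'.2]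

/-- The element given by rows. -/
noncomputable def mkEl {R : List (List ℤ)} (h : elemOK R = true) : GT := ⟨rowsAut (elemOK_test h), elemOK_fix h⟩

theorem acts_mkEl {R : List (List ℤ)} (h : elemOK R = true) : Conway.ThreeOut.Acts (mkEl h) (stepRows R) := by
  have h' := h
  simp only [elemOK, Bool.and_eq_true, beq_iff_eq] at h'
  exact fun u => acts_rowsAut (elemOK_test h) h'.1.2 u

theorem rho_mkEl {R : List (List ℤ)} (h : elemOK R = true) {c : ℕ} (hc : goodOK (stepRows R) c = true)
    (i : Fin 276) : (rho (mkEl h) i : ℕ) = pimg c i :=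
  rho_apply_of_good (acts_mkEl h) hc i

end CfsgLib.CoThreeUnique
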